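import Mathlib
import Cfsg.Agent.H392.TD.Count_m3
import Cfsg.Agent.H762.Ppd.PsuAux_m3
import Cfsg.Agent.H918.UProper
import Cfsg.Agent.H905.MdL
import Cfsg.Agent.H925.NatMain
import Cfsg.Agent.LieClassical.HermBasic
import Cfsg.Agent.H925.U52Form
import Cfsg.Prelude.Def_GeometricClasses
import Cfsg.Agent.KFacts.MulOdd.Inst
import Cfsg.Agent.H905.MdH_m3
import Cfsg.Agent.Nodes.TypeC
import Cfsg.Agent.SM.Ti.Box
import Cfsg.Agent.S0280
import Cfsg.Agent.H948.Ppd.TypeB_m3
import Cfsg.Agent.FastGrp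
import Cfsg.Agent.Prune
set_option linter.all false

section
prune_inst 0x7ffdedf8bbbce3ffffff7e7fa6d8cffc39911fffa6dff943ffe06bff0bdf138209e56b8d0de090fe0ed6e01410b87853fb7eeeffe26bdc7ffffd5ff45ffbee5ff5f7bd0811d68c340f3c2ff783f0778e7f3fffffffffffffffffffffffffffbeffbfffffffff

-- part: H69/Ppd/SUNat
section
prune_inst 0x203404018000000018059071001c42a2000402004b8000c00001000cc08c6020030e2130700310103008c000380048111000004020000000000000000000000000140080080008000086000800000000000000000000000000000000000000000000000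
set_option linter.all false
open scoped Cfsg.Agent.FastGrp

-- part: H353/Ker/Rank
section
/-!
# The rank of a matrix (helper353, for TEAM PPD, task PPD-Q)

* `rk F` : the rank of `F : α → β → k`, the dimension of the span of the rows;
* `rk_comp`, `rk_comp_le`, `rk_scale`;
* `rk_le_of_factor`, `rk_eq_of_factor` : `F a b = ∑ s, A s a * C s b`.
-/

set_option autoImplicit false
set_option linter.unusedSectionVars false
set_option linter.style.haveILetI false

namespace Cfsg.Agent.H353.Ker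

/-! ### the rank of a matrix -/

section rk

variable {k : Type*} [Field k] {α β α' β' : Type*}

/-- the rank of the matrix `F` -/
noncomputable def rk (F : α → β → k) : ℕ := Module.finrank k (Submodule.span k (Set.range F))

/-- the pullback of functions -/
def pb (k : Type*) [Field k] (f : β' → β) : (β → k) →ₗ[k] (β' → k) where
  toFun φ := φ ∘ f
  map_add' _ _ := rfl
  map_smul' _ _ := rfl

theorem pb_injective {f : β' → β} (hf : Function.Surjective f) : Function.Injective (pb k f) := by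
  intro φ ψ hφ
  funext b
  obtain ⟨b', rfl⟩ := hf b
  exact congrFun hφ b'

/-- doubling rows and columns does not change the rank -/
theorem rk_comp (F : α → β → k) {a : α' → α} {b : β' → β} (ha : Function.Surjective a)
    (hb : Function.Surjective b) : rk (fun x y => F (a x) (b y)) = rk F := by
  unfold rk
  have e : Set.range (fun x y => F (a x) (b y)) = pb k b '' Set.range F := by
    ext φ
    constructor
    · rintro ⟨x, rfl⟩
      exact ⟨F (a x), ⟨a x, rfl⟩, rfl⟩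
    · rintro ⟨_, ⟨x, rfl⟩, rfl⟩
      obtain ⟨x', rfl⟩ := ha x
      exact ⟨x', rfl⟩
  rw [e, Submodule.span_image]
  exact (Submodule.equivMapOfInjective _ (pb_injective hb) _).finrank_eq.symm

theorem span_range_finite [Finite α] (F : α → β → k) :
    Module.Finite k (Submodule.span k (Set.range F)) :=
  FiniteDimensional.span_of_finite k (Set.finite_range F)

/-- a submatrix has smaller rank -/
theorem rk_comp_le [Finite α] (F : α → β → k) (a : α' → α) (b : β' → β) :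
    rk (fun x y => F (a x) (b y)) ≤ rk F := by
  unfold rk
  have := span_range_finite F
  have e : Submodule.span k (Set.range (fun x y => F (a x) (b y))) ≤
      (Submodule.span k (Set.range F)).map (pb k b) := by
    rw [Submodule.span_le]
    rintro _ ⟨x, rfl⟩
    exact ⟨F (a x), Submodule.subset_span ⟨a x, rfl⟩, rfl⟩
  exact (Submodule.finrank_mono e).trans (Submodule.finrank_map_le _ _)

/-- multiplying the columns by nonzero numbers -/
def sc (s : β → k) : (β → k) →ₗ[k] (β → k) where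
  toFun φ b := s b * φ b
  map_add' φ ψ := by funext b; exact mul_add _ _ _
  map_smul' a φ := by funext b; exact mul_left_comm _ _ _

/-- multiplying rows and columns by nonzero numbers does not change the rank -/
theorem rk_scale (F : α → β → k) {r : α → k} {s : β → k} (hr : ∀ a, r a ≠ 0) (hs : ∀ b, s b ≠ 0) :
    rk (fun a b => r a * (s b * F a b)) = rk F := by
  unfold rk
  have hinj : Function.Injective (sc s) := by
    intro φ ψ hφ
    funext b
    exact mul_left_cancel₀ (hs b) (congrFun hφ b)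
  have e : Submodule.span k (Set.range (fun a b => r a * (s b * F a b))) =
      (Submodule.span k (Set.range F)).map (sc s) := by
    rw [← Submodule.span_image]
    apply le_antisymm
    · rw [Submodule.span_le]
      rintro _ ⟨a, rfl⟩
      exact Submodule.smul_mem _ (r a) (Submodule.subset_span ⟨F a, ⟨a, rfl⟩, rfl⟩)
    · rw [Submodule.span_le]
      rintro _ ⟨_, ⟨a, rfl⟩, rfl⟩
      have h1 : sc s (F a) = (r a)⁻¹ • (fun b => r a * (s b * F a b)) := by
        funext b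
        rw [Pi.smul_apply, smul_eq_mul, inv_mul_cancel_left₀ (hr a)]
        rfl
      rw [SetLike.mem_coe, h1]
      exact Submodule.smul_mem _ _ (Submodule.subset_span ⟨a, rfl⟩)
  rw [e]
  exact (Submodule.equivMapOfInjective _ hinj _).finrank_eq.symm

/-- multiplying by a nonzero number does not change the rank -/
theorem rk_smul (F : α → β → k) {c : k} (hc : c ≠ 0) : rk (fun a b => c * F a b) = rk F := by
  have := rk_scale F (r := fun _ => c) (s := fun _ => 1) (fun _ => hc) (fun _ => one_ne_zero)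
  simpa only [one_mul] using this

end rk

section factor

variable {k : Type*} [Field k] {α β ι : Type*} [Fintype ι]

/-- the map `c ↦ ∑ s, c s • C s` -/
def comb (C : ι → β → k) : (ι → k) →ₗ[k] (β → k) where
  toFun c b := ∑ s, c s * C s b
  map_add' c d := by
    funext b
    simp only [Pi.add_apply, add_mul, Finset.sum_add_distrib]
  map_smul' a c := by
    funext b
    simp only [Pi.smul_apply, smul_eq_mul, RingHom.id_apply, Finset.mul_sum, mul_assoc]

theorem span_range_eq (F : α → β → k) (A : ι → α → k) (C : ι → β → k)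
    (h : ∀ a b, F a b = ∑ s, A s a * C s b) :
    Submodule.span k (Set.range F) = (Submodule.span k (Set.range fun a s => A s a)).map (comb C) := by
  rw [← Submodule.span_image, ← Set.range_comp]
  congr 2
  funext a b
  exact h a b

theorem span_top_of_indep {A : ι → α → k} (hA : ∀ c : ι → k, (∀ a, ∑ s, c s * A s a = 0) → c = 0) :
    Submodule.span k (Set.range fun (a : α) (s : ι) => A s a) = ⊤ := by
  classical
  by_contra hne
  obtain ⟨φ, hφ0, hφ⟩ := Submodule.exists_le_ker_of_lt_top _ (lt_top_iff_ne_top.2 hne)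
  apply hφ0
  have key : ∀ v : ι → k, φ v = ∑ s, φ (Pi.single s 1) * v s := by
    intro v
    conv_lhs => rw [← Finset.univ_sum_single v]
    rw [map_sum]
    refine Finset.sum_congr rfl fun s _ => ?_
    have : Pi.single s (v s) = v s • (Pi.single s 1 : ι → k) := by
      rw [← Pi.single_smul, smul_eq_mul, mul_one]
    rw [this, map_smul, smul_eq_mul, mul_comm]
  have h1 := hA (fun s => φ (Pi.single s 1)) fun a => by
    rw [← key]
    exact hφ (Submodule.subset_span ⟨a, rfl⟩)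
  refine LinearMap.ext fun v => ?_
  rw [key]
  simp only [LinearMap.zero_apply]
  refine Finset.sum_eq_zero fun s _ => ?_
  rw [congrFun h1 s, Pi.zero_apply, zero_mul]

theorem rk_eq_of_factor (F : α → β → k) (A : ι → α → k) (C : ι → β → k)
    (h : ∀ a b, F a b = ∑ s, A s a * C s b)
    (hA : ∀ c : ι → k, (∀ a, ∑ s, c s * A s a = 0) → c = 0)
    (hC : ∀ c : ι → k, (∀ b, ∑ s, c s * C s b = 0) → c = 0) : rk F = Fintype.card ι := by
  have hinj : Function.Injective (comb C) := by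
    rw [injective_iff_map_eq_zero]
    intro c hc
    exact hC c fun b => congrFun hc b
  unfold rk
  rw [span_range_eq F A C h, span_top_of_indep hA,
    (Submodule.equivMapOfInjective _ hinj _).finrank_eq.symm, finrank_top,
    Module.finrank_fintype_fun_eq_card]

end factor

end Cfsg.Agent.H353.Ker
end

-- part: H353/Ker/Bridge
section
/-!
# The kernel of a simple module in the defining characteristic (helper353, for TEAM PPD, task PPD-Q (4))

`R : RGD cs h p T n X`, `ρ` simple over `k`, `v₀ ∈ V^U`, `φ₀` fixed by `U⁻`, `φ₀ v₀ = 1`.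

* `exists_birkhoff` : `GG = ⋃ U⁻ N U`;
* `rk F` (Ker/Rank) : the rank of the matrix `F : α → β → k`;
* `finrank_eq_rk` : `dim V` is the rank of `(φ₀ (g⁻¹ h v₀))`;
* `pair_eq_pow` : if `M` is a second module, over `K`, with `m₀`, `μ₀`, of the same type `J`, and
  `χ = σ(ψ)^c`, then `φ₀ (g v₀) = σ (μ₀ (g m₀)) ^ c`;
* **`finrank_eq_rank_of_pow`** : `dim V` is the rank of the matrix `(σ (y x) ^ c)`, `x` in the orbit of `m₀` and `y`
  in the orbit of `μ₀`.
-/

set_option autoImplicit false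
set_option linter.unusedSectionVars false
set_option linter.style.haveILetI false

namespace Cfsg.Agent.H353.Ker

open CoxeterSystem Cfsg.Agent.ChevalleyStructure.CoxeterGeom Cfsg.Agent.Tits.Roots Cfsg.Agent.Tits.Core
  Cfsg.Agent.Tits.Exchange Cfsg.Agent.Nodes.Reps Cfsg.Agent.Nodes.BNOf Cfsg.Agent.Nodes.StabComb
  Cfsg.Agent.Nodes.Bruhat Cfsg.Agent.Nodes.OppDec Cfsg.Agent.Nodes.LeviDec Cfsg.Agent.KFacts.RgdOpp
  Cfsg.Agent.Omega.CR Cfsg.Agent.Omega.FOne.Lift.Sd Cfsg.Agent.H905.Md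

variable {I W Y : Type*} [Fintype I] [DecidableEq I] [Group W] [Group Y] {M : CoxeterMatrix I}
  {cs : CoxeterSystem M W} {A : I → I → ℤ} {h : IsCartan M A} {p : ℕ} {T : Subgroup Y} {n : I → Y}
  {X : (I → ℤ) → Subgroup Y}

/-! ### the decomposition -/

/-- **Birkhoff decomposition** -/
theorem exists_birkhoff (R : RGD cs h p T n X) [Finite W] {g : Y} (hg : g ∈ GG cs h T X) :
    ∃ a ∈ UN cs h X, ∃ (w : W) (x : Y), Rp cs R.nsys w x ∧ ∃ b ∈ RGD.Sup X (RGD.Pos cs h), g = a * x * b := by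
  obtain ⟨c, hc⟩ := exists_rp cs R.nsys (w0 cs)
  have hc' : Rp cs R.nsys (w0 cs) c⁻¹ := by
    have := hc.inv
    rwa [w0_inv] at this
  have hcG : c ∈ GG cs h T X := NN_le_GG R ⟨_, hc⟩
  obtain ⟨w, b₁, hb₁, x, hx, b₂, hb₂, e⟩ := (mem_GG R).1 (mul_mem hcG hg)
  have h1 : c⁻¹ * b₁ * c ∈ BN cs h T X := by
    have h2 : c⁻¹ * b₁ * (c⁻¹)⁻¹ ∈ cj c⁻¹ (RGD.B cs h T X) := conj_mem_cj.2 hb₁
    rwa [cj_B R hc', inv_inv] at h2
  have h2 : (c⁻¹ * b₁ * c)⁻¹ ∈ RGD.B cs h T (fun x => X (-x)) := by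
    rw [B_opp]
    exact inv_mem h1
  obtain ⟨t, ht, a, ha, e2⟩ := (opp R).mem_B.1 h2
  rw [U_opp] at ha
  obtain ⟨t₂, ht₂, u, hu, rfl⟩ := R.mem_B.1 hb₂
  refine ⟨a⁻¹, inv_mem ha, w0 cs * w, t⁻¹ * (c⁻¹ * x) * t₂, ?_, u, hu, ?_⟩
  · have h3 := ((rp_of_mem (cs := cs) (hN := R.nsys) (inv_mem ht)).mul (hc'.mul hx)).mul_mem_right ht₂
    rwa [one_mul] at h3
  · have h4 : c⁻¹ * b₁ * c = a⁻¹ * t⁻¹ := by
      rw [← inv_inv (c⁻¹ * b₁ * c), e2, mul_inv_rev]
    calc g = c⁻¹ * (c * g) := by group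
      _ = (c⁻¹ * b₁ * c) * (c⁻¹ * x) * (t₂ * u) := by rw [e]; group
      _ = a⁻¹ * (t⁻¹ * (c⁻¹ * x) * t₂) * u := by rw [h4]; group

section

variable {k V : Type*} [Field k] [AddCommGroup V] [Module k V]

/-- the subgroup fixing a vector -/
def stab (ρ : Y →* Module.End k V) (v : V) : Subgroup Y where
  carrier := {g | ρ g v = v}
  one_mem' := rho_one ρ _
  mul_mem' := by
    intro a b (ha : ρ a _ = _) (hb : ρ b _ = _)
    change ρ (a * b) _ = _
    rw [rho_mul, hb, ha]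
  inv_mem' := by
    intro a (ha : ρ a _ = _)
    change ρ a⁻¹ _ = _
    conv_lhs => rw [← ha]
    exact rho_inv_rho ρ a _

theorem mem_stab {ρ : Y →* Module.End k V} {v : V} {g : Y} : g ∈ stab ρ v ↔ ρ g v = v := Iff.rfl

/-- representatives for `W_J` in a subgroup containing the `X_{± α_j}`, `j ∈ J` -/
theorem exists_rp_mem (R : RGD cs h p T n X) {J : Set I} {w : W} (hw : w ∈ WJ cs J) (L : Subgroup Y)
    (h1 : ∀ j ∈ J, X (sr j) ≤ L) (h2 : ∀ j ∈ J, X (-sr j) ≤ L) : ∃ l ∈ L, Rp cs R.nsys w l := by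
  obtain ⟨ω, hω, rfl⟩ := exists_word_of_mem_WJ cs hw
  clear hw
  induction ω with
  | nil => exact ⟨1, one_mem _, by rw [wordProd_nil]; exact rp_one⟩
  | cons i ω ih =>
    obtain ⟨l, hl, hr⟩ := ih fun j hj => hω j (by simp [hj])
    have hi : i ∈ J := hω i (by simp)
    obtain ⟨u, hu, hu1⟩ := (X (-sr i)).bot_or_exists_ne_one.resolve_left (X_ne_bot R (isRoot_sr cs h i).neg)
    obtain ⟨a, ha, t, ht, b, hb, e⟩ := R.rk1 i u hu hu1
    refine ⟨(a⁻¹ * u * b⁻¹) * l, mul_mem (mul_mem (mul_mem (h1 i hi (inv_mem ha)) (h2 i hi hu))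
      (h1 i hi (inv_mem hb))) hl, ?_⟩
    rw [wordProd_cons]
    refine Rp.mul ?_ hr
    have e2 : a⁻¹ * u * b⁻¹ = t * n i := by rw [e]; group
    rw [e2]
    have h3 := (rp_of_mem (cs := cs) (hN := R.nsys) ht).mul (rp_simple cs R.nsys i)
    rwa [one_mul] at h3

end

/-! ### the kernel -/

section ker

variable {k V : Type*} [Field k] [AddCommGroup V] [Module k V]

variable (R : RGD cs h p T n X) [Finite Y] [Finite W] [Fact p.Prime] [CharP k p]
  {ρ : Y →* Module.End k V} [FiniteDimensional k V]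
  (hirr : ∀ L : Submodule k V, Ivt ρ (GG cs h T X) L → L = ⊥ ∨ L = ⊤)

/-- the span of the orbit -/
theorem span_orbit {G : Subgroup Y} (hirr : ∀ L : Submodule k V, Ivt ρ G L → L = ⊥ ∨ L = ⊤) {v : V}
    (hv : v ≠ 0) : Submodule.span k (Set.range fun g : G => ρ g v) = ⊤ := by
  refine (hirr _ ?_).resolve_left ?_
  · intro g hg w hw
    induction hw using Submodule.span_induction with
    | mem x hx =>
      obtain ⟨g', rfl⟩ := hx
      simp only
      rw [← rho_mul]
      exact Submodule.subset_span ⟨⟨g, hg⟩ * g', rfl⟩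
    | zero => rw [map_zero]; exact zero_mem _
    | add x y _ _ hx hy => rw [map_add]; exact add_mem hx hy
    | smul a x _ hx => rw [map_smul]; exact Submodule.smul_mem _ _ hx
  · intro h0
    apply hv
    have h1 : v ∈ Submodule.span k (Set.range fun g : G => ρ g v) :=
      Submodule.subset_span ⟨1, rho_one ρ v⟩
    rwa [h0, Submodule.mem_bot] at h1

/-- the dimension of a simple module is the rank of the matrix of a matrix coefficient -/
theorem finrank_eq_rk {G : Subgroup Y} (hirr : ∀ L : Submodule k V, Ivt ρ G L → L = ⊥ ∨ L = ⊤) {v : V}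
    (hv : v ≠ 0) {φ : Module.Dual k V} (hφ : φ ≠ 0) :
    Module.finrank k V = rk (fun (g g' : G) => φ (ρ ((g : Y)⁻¹ * g') v)) := by
  let Φ : Module.Dual k V →ₗ[k] (G → k) :=
    { toFun := fun ψ g => ψ (ρ g v)
      map_add' := fun _ _ => rfl
      map_smul' := fun _ _ => rfl }
  have hΦ : Function.Injective Φ := by
    rw [injective_iff_map_eq_zero]
    intro ψ hψ
    have h1 : Submodule.span k (Set.range fun g : G => ρ g v) ≤ LinearMap.ker ψ := by
      rw [Submodule.span_le]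
      rintro _ ⟨g, rfl⟩
      exact congrFun hψ g
    rw [span_orbit hirr hv, top_le_iff, LinearMap.ker_eq_top] at h1
    exact h1
  have h2 := span_orbit (ρ := (dualRep ρ :)) (dual_irr ρ hirr) hφ
  have h3 : Submodule.span k (Set.range fun (g g' : G) => φ (ρ ((g : Y)⁻¹ * g') v)) = LinearMap.range Φ := by
    have e : (Set.range fun (g g' : G) => φ (ρ ((g : Y)⁻¹ * g') v)) =
        Φ '' (Set.range fun g : G => dualRep ρ g φ) := by
      rw [← Set.range_comp]
      congr 1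
      funext g g'
      show φ (ρ ((g : Y)⁻¹ * g') v) = (dualRep ρ g φ) (ρ g' v)
      rw [dualRep_apply, rho_mul]
    rw [e, Submodule.span_image, h2, LinearMap.range_eq_map]
  unfold rk
  rw [h3, LinearMap.finrank_range_of_inj hΦ, Subspace.dual_finrank_eq]

include R

variable {K N : Type*} [Field K] [AddCommGroup N] [Module K N] {μ : Y →* Module.End K N}

/-- **The kernel.** General form: `N` need not be simple. -/
theorem pair_eq_pow' {J : Set I} {v₀ : V} {φ₀ : Module.Dual k V} (hv : v₀ ∈ D cs h X ρ)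
    (hφ : φ₀ ∈ fx ((dualRep ρ :)) (UN cs h X)) (h1 : φ₀ v₀ = 1)
    (hJv : ∀ j ∈ J, ∀ x ∈ X (-sr j), ρ x v₀ = v₀)
    (hkv : ∀ (w : W) (g : Y), Rp cs R.nsys w g → w ∉ WJ cs J → φ₀ (ρ g v₀) = 0)
    {m₀ : N} {μ₀ : Module.Dual K N} (hm : m₀ ∈ D cs h X μ)
    (hμ : μ₀ ∈ fx ((dualRep μ :)) (UN cs h X)) (h2 : μ₀ m₀ = 1)
    (hJm : ∀ j ∈ J, ∀ x ∈ X (-sr j), μ x m₀ = m₀)
    (hkm : ∀ (w : W) (g : Y), Rp cs R.nsys w g → w ∉ WJ cs J → μ₀ (μ g m₀) = 0)
    {χ : Y → k} {ψ : Y → K} (hχ : ∀ t ∈ T, ρ t v₀ = χ t • v₀) (hψ : ∀ t ∈ T, μ t m₀ = ψ t • m₀)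
    (σ : K →+* k) {c : ℕ} (hc : c ≠ 0) (hχψ : ∀ t ∈ T, χ t = σ (ψ t) ^ c) {g : Y}
    (hg : g ∈ GG cs h T X) : φ₀ (ρ g v₀) = σ (μ₀ (μ g m₀)) ^ c := by
  obtain ⟨a, ha, w, x, hx, b, hb, rfl⟩ := exists_birkhoff R hg
  have e1 : φ₀ (ρ (a * x * b) v₀) = φ₀ (ρ x v₀) := by
    rw [rho_mul, hv b hb, rho_mul, (mem_fx_dual ρ).1 hφ a ha]
  have e2 : μ₀ (μ (a * x * b) m₀) = μ₀ (μ x m₀) := by
    rw [rho_mul, hm b hb, rho_mul, (mem_fx_dual μ).1 hμ a ha]
  rw [e1, e2]
  by_cases hw : w ∈ WJ cs J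
  · obtain ⟨l, hl, hrl⟩ := exists_rp_mem R hw (stab ρ v₀ ⊓ stab μ m₀)
      (fun j _ y hy => ⟨X_fix R ρ hv j hy, X_fix R μ hm j hy⟩)
      (fun j hj y hy => ⟨hJv j hj y hy, hJm j hj y hy⟩)
    have ht := hx.inv.unique hrl.inv
    rw [inv_inv] at ht
    -- `x = (x l⁻¹) l`
    obtain ⟨t, rfl⟩ : ∃ t, x = t * l := ⟨x * l⁻¹, by group⟩
    rw [mul_inv_cancel_right] at ht
    rw [rho_mul, rho_mul, (mem_stab.1 hl.1), (mem_stab.1 hl.2), hχ _ ht, hψ _ ht, map_smul,
      map_smul, h1, h2, smul_eq_mul, smul_eq_mul, mul_one, mul_one]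
    exact hχψ _ ht
  · rw [hkv w x hx hw, hkm w x hx hw, map_zero, zero_pow hc]

/-- **`dim V` is the rank of the matrix `(σ (y x) ^ c)`.** General form. -/
theorem finrank_eq_rank_of_pow' (hirr : ∀ L : Submodule k V, Ivt ρ (GG cs h T X) L → L = ⊥ ∨ L = ⊤)
    {J : Set I} {v₀ : V} {φ₀ : Module.Dual k V} (hv : v₀ ∈ D cs h X ρ)
    (hφ : φ₀ ∈ fx ((dualRep ρ :)) (UN cs h X)) (h1 : φ₀ v₀ = 1)
    (hJv : ∀ j ∈ J, ∀ x ∈ X (-sr j), ρ x v₀ = v₀)
    (hkv : ∀ (w : W) (g : Y), Rp cs R.nsys w g → w ∉ WJ cs J → φ₀ (ρ g v₀) = 0)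
    {m₀ : N} {μ₀ : Module.Dual K N} (hm : m₀ ∈ D cs h X μ)
    (hμ : μ₀ ∈ fx ((dualRep μ :)) (UN cs h X)) (h2 : μ₀ m₀ = 1)
    (hJm : ∀ j ∈ J, ∀ x ∈ X (-sr j), μ x m₀ = m₀)
    (hkm : ∀ (w : W) (g : Y), Rp cs R.nsys w g → w ∉ WJ cs J → μ₀ (μ g m₀) = 0)
    {χ : Y → k} {ψ : Y → K} (hχ : ∀ t ∈ T, ρ t v₀ = χ t • v₀) (hψ : ∀ t ∈ T, μ t m₀ = ψ t • m₀)
    (σ : K →+* k) {c : ℕ} (hc : c ≠ 0) (hχψ : ∀ t ∈ T, χ t = σ (ψ t) ^ c)
    (S : Set N) (hS : ∀ x, x ∈ S ↔ ∃ g ∈ GG cs h T X, μ g m₀ = x)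
    (S' : Set (Module.Dual K N)) (hS' : ∀ y, y ∈ S' ↔ ∃ g ∈ GG cs h T X, dualRep μ g μ₀ = y) :
    Module.finrank k V = rk (fun (y : S') (x : S) => σ ((y : Module.Dual K N) (x : N)) ^ c) := by
  have hv0 : v₀ ≠ 0 := by
    rintro rfl
    rw [map_zero] at h1
    exact one_ne_zero h1.symm
  have hφ0 : φ₀ ≠ 0 := by
    rintro rfl
    exact one_ne_zero h1.symm
  rw [finrank_eq_rk hirr hv0 hφ0]
  have e : (fun (g g' : GG cs h T X) => φ₀ (ρ ((g : Y)⁻¹ * g') v₀)) = fun (g g' : GG cs h T X) =>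
      (fun (y : S') (x : S) => σ ((y : Module.Dual K N) (x : N)) ^ c)
        ⟨dualRep μ g μ₀, (hS' _).2 ⟨g, g.2, rfl⟩⟩ ⟨μ g' m₀, (hS _).2 ⟨g', g'.2, rfl⟩⟩ := by
    funext g g'
    rw [pair_eq_pow' R hv hφ h1 hJv hkv hm hμ h2 hJm hkm hχ hψ σ hc hχψ (mul_mem (inv_mem g.2) g'.2)]
    simp only
    rw [dualRep_apply, rho_mul]
  rw [e]
  refine rk_comp (fun (y : S') (x : S) => σ ((y : Module.Dual K N) (x : N)) ^ c)
    (a := fun g : GG cs h T X => (⟨dualRep μ g μ₀, (hS' _).2 ⟨g, g.2, rfl⟩⟩ : S'))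
    (b := fun g' : GG cs h T X => (⟨μ g' m₀, (hS _).2 ⟨g', g'.2, rfl⟩⟩ : S)) ?_ ?_
  · rintro ⟨y, hy⟩
    obtain ⟨g, hg, rfl⟩ := (hS' y).1 hy
    exact ⟨⟨g, hg⟩, rfl⟩
  · rintro ⟨x, hx⟩
    obtain ⟨g, hg, rfl⟩ := (hS x).1 hx
    exact ⟨⟨g, hg⟩, rfl⟩

/-! ### two simple modules -/

variable [CharP K p] [FiniteDimensional K N]

omit [CharP K p] in
/-- a nonzero functional fixed by `U⁻` does not vanish on `V^U` -/
theorem pair_ne_zero [Nontrivial V] (hirr : ∀ L : Submodule k V, Ivt ρ (GG cs h T X) L → L = ⊥ ∨ L = ⊤)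
    {v₀ : V} (hv : v₀ ∈ D cs h X ρ) (hv0 : v₀ ≠ 0) {χ : Y → k} (hχ : ∀ t ∈ T, ρ t v₀ = χ t • v₀)
    {φ₀ : Module.Dual k V} (hφ : φ₀ ∈ fx ((dualRep ρ :)) (UN cs h X)) (hφ0 : φ₀ ≠ 0) : φ₀ v₀ ≠ 0 := by
  intro h0
  have hs := simp_fx (opp R) ((dualRep ρ :)) (_root_.Cfsg.Agent.H905.Md.hirr_opp R hirr)
  rw [U_opp] at hs
  -- the functionals vanishing at `v₀`
  let L : Submodule k (Module.Dual k V) :=
    fx (dualRep ρ) (UN cs h X) ⊓ LinearMap.ker (Module.Dual.eval k V v₀)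
  have hL : Ivt ((dualRep ρ :)) T L := by
    intro t ht φ hφ'
    refine ⟨hs.inv t ht φ hφ'.1, ?_⟩
    have h1 : φ v₀ = 0 := hφ'.2
    change (dualRep ρ t φ) v₀ = 0
    rw [dualRep_apply, hχ _ (inv_mem ht), map_smul, h1, smul_zero]
  rcases hs.simple L inf_le_left hL with h1 | h1
  · have h2 : φ₀ ∈ L := ⟨hφ, h0⟩
    rw [h1, Submodule.mem_bot] at h2
    exact hφ0 h2
  · obtain ⟨φ, hφ1, hφ2⟩ := exists_pair_D R hirr hv hv0
    rw [← h1] at hφ1
    exact hφ2 hφ1.2

/-- **`dim V` is the rank of the matrix `(σ (y x) ^ c)`**, `x` in the orbit of `m₀`, `y` in the orbit of `μ₀`: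
two simple modules of the same type `J`, the torus acts on `V^U` by `χ = σ(ψ)^c`. -/
theorem finrank_eq_rank_of_pow [Nontrivial V] [Nontrivial N]
    (hirr : ∀ L : Submodule k V, Ivt ρ (GG cs h T X) L → L = ⊥ ∨ L = ⊤)
    (hirrN : ∀ L : Submodule K N, Ivt μ (GG cs h T X) L → L = ⊥ ∨ L = ⊤)
    {v₀ : V} (hv : v₀ ∈ D cs h X ρ) (hv0 : v₀ ≠ 0) {m₀ : N} (hm : m₀ ∈ D cs h X μ) (hm0 : m₀ ≠ 0)
    {μ₀ : Module.Dual K N} (hμ : μ₀ ∈ fx ((dualRep μ :)) (UN cs h X)) (hμ0 : μ₀ ≠ 0)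
    (hJ : Jx cs h X ρ = Jx cs h X μ)
    {χ : Y → k} {ψ : Y → K} (hχ : ∀ t ∈ T, ρ t v₀ = χ t • v₀) (hψ : ∀ t ∈ T, μ t m₀ = ψ t • m₀)
    (σ : K →+* k) {c : ℕ} (hc : c ≠ 0) (hχψ : ∀ t ∈ T, χ t = σ (ψ t) ^ c)
    (S : Set N) (hS : ∀ x, x ∈ S ↔ ∃ g ∈ GG cs h T X, μ g m₀ = x)
    (S' : Set (Module.Dual K N)) (hS' : ∀ y, y ∈ S' ↔ ∃ g ∈ GG cs h T X, dualRep μ g μ₀ = y) :
    Module.finrank k V = rk (fun (y : S') (x : S) => σ ((y : Module.Dual K N) (x : N)) ^ c) := by
  obtain ⟨φ, hφ, hφ0⟩ := exists_pair_D R hirr hv hv0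
  have hne := pair_ne_zero R (ρ := μ) hirrN hm hm0 hψ hμ hμ0
  -- normalise
  have hφ' : (φ v₀)⁻¹ • φ ∈ fx ((dualRep ρ :)) (UN cs h X) := Submodule.smul_mem _ _ hφ
  have hμ' : (μ₀ m₀)⁻¹ • μ₀ ∈ fx ((dualRep μ :)) (UN cs h X) := Submodule.smul_mem _ _ hμ
  have hφ1 : ((φ v₀)⁻¹ • φ) v₀ = 1 := by
    rw [LinearMap.smul_apply, smul_eq_mul, inv_mul_cancel₀ hφ0]
  have hμ1 : ((μ₀ m₀)⁻¹ • μ₀) m₀ = 1 := by
    rw [LinearMap.smul_apply, smul_eq_mul, inv_mul_cancel₀ hne]
  have key := finrank_eq_rank_of_pow' R hirr hv hφ' hφ1 (J := Jx cs h X ρ)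
    (fun j hj x hx => hj x hx v₀ hv)
    (fun w g hg hw => by
      by_contra hcon
      exact hw (mem_WJ_of_pair R hirr hφ' hg hv hcon)) hm hμ' hμ1
    (fun j hj x hx => by
      rw [hJ] at hj
      exact hj x hx m₀ hm)
    (fun w g hg hw => by
      by_contra hcon
      rw [hJ] at hw
      exact hw (mem_WJ_of_pair R hirrN hμ' hg hm hcon)) hχ hψ σ hc hχψ S hS
    {y | ∃ g ∈ GG cs h T X, dualRep μ g ((μ₀ m₀)⁻¹ • μ₀) = y} (fun _ => Iff.rfl)
  rw [key]
  -- the scaling
  rw [← rk_smul (fun (y : S') (x : S) => σ ((y : Module.Dual K N) (x : N)) ^ c)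
    (c := σ ((μ₀ m₀)⁻¹) ^ c) (pow_ne_zero _ ((map_ne_zero σ).2 (inv_ne_zero hne)))]
  let f : S' → {y | ∃ g ∈ GG cs h T X, dualRep μ g ((μ₀ m₀)⁻¹ • μ₀) = y} := fun y =>
    ⟨(μ₀ m₀)⁻¹ • (y : Module.Dual K N), by
      obtain ⟨g, hg, e⟩ := (hS' y).1 y.2
      exact ⟨g, hg, by rw [map_smul, e]⟩⟩
  have hf : Function.Surjective f := by
    rintro ⟨y, g, hg, e⟩
    refine ⟨⟨dualRep μ g μ₀, (hS' _).2 ⟨g, hg, rfl⟩⟩, Subtype.ext ?_⟩
    show (μ₀ m₀)⁻¹ • (dualRep μ g μ₀) = y
    rw [← e, map_smul]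
  rw [← rk_comp _ hf (Function.surjective_id (α := S))]
  congr 1
  funext y x
  show σ (((μ₀ m₀)⁻¹ • (y : Module.Dual K N)) (x : N)) ^ c = _
  rw [LinearMap.smul_apply, smul_eq_mul, map_mul, mul_pow]

/-- **The lower bound.** `x` runs over vectors, `y` over functionals in the orbits of the lines of `m₀`, `μ₀`. -/
theorem le_finrank_of_pow [Nontrivial V] [Nontrivial N]
    (hirr : ∀ L : Submodule k V, Ivt ρ (GG cs h T X) L → L = ⊥ ∨ L = ⊤)
    (hirrN : ∀ L : Submodule K N, Ivt μ (GG cs h T X) L → L = ⊥ ∨ L = ⊤)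
    {v₀ : V} (hv : v₀ ∈ D cs h X ρ) (hv0 : v₀ ≠ 0) {m₀ : N} (hm : m₀ ∈ D cs h X μ) (hm0 : m₀ ≠ 0)
    {μ₀ : Module.Dual K N} (hμ : μ₀ ∈ fx ((dualRep μ :)) (UN cs h X)) (hμ0 : μ₀ ≠ 0)
    (hJ : Jx cs h X ρ = Jx cs h X μ)
    {χ : Y → k} {ψ : Y → K} (hχ : ∀ t ∈ T, ρ t v₀ = χ t • v₀) (hψ : ∀ t ∈ T, μ t m₀ = ψ t • m₀)
    (σ : K →+* k) {c : ℕ} (hc : c ≠ 0) (hχψ : ∀ t ∈ T, χ t = σ (ψ t) ^ c)
    {α β : Type*} (x : β → N) (hx : ∀ b, ∃ g ∈ GG cs h T X, ∃ a : K, a ≠ 0 ∧ μ g m₀ = a • x b)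
    (y : α → Module.Dual K N) (hy : ∀ b, ∃ g ∈ GG cs h T X, ∃ a : K, a ≠ 0 ∧ dualRep μ g μ₀ = a • y b) :
    rk (fun (i : α) (j : β) => σ ((y i) (x j)) ^ c) ≤ Module.finrank k V := by
  rw [finrank_eq_rank_of_pow R hirr hirrN hv hv0 hm hm0 hμ hμ0 hJ hχ hψ σ hc hχψ
    {x | ∃ g ∈ GG cs h T X, μ g m₀ = x} (fun _ => Iff.rfl)
    {y | ∃ g ∈ GG cs h T X, dualRep μ g μ₀ = y} (fun _ => Iff.rfl)]
  choose gx hgx ax hax hx' using hx
  choose gy hgy ay hay hy' using hy
  have hfin : Finite ({y | ∃ g ∈ GG cs h T X, dualRep μ g μ₀ = y} : Set (Module.Dual K N)) := by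
    refine Set.Finite.subset (Set.finite_range fun g : Y => dualRep μ g μ₀) ?_
    rintro _ ⟨g, -, rfl⟩
    exact ⟨g, rfl⟩
  refine le_trans (le_of_eq ?_) (rk_comp_le (fun (y : ({y | ∃ g ∈ GG cs h T X, dualRep μ g μ₀ = y} :
    Set (Module.Dual K N))) (x : ({x | ∃ g ∈ GG cs h T X, μ g m₀ = x} : Set N)) =>
      σ ((y : Module.Dual K N) (x : N)) ^ c) (fun i : α => ⟨dualRep μ (gy i) μ₀, gy i, hgy i, rfl⟩)
      (fun j : β => ⟨μ (gx j) m₀, gx j, hgx j, rfl⟩))
  rw [← rk_scale (fun (i : α) (j : β) => σ ((y i) (x j)) ^ c) (r := fun i => σ (ay i) ^ c)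
    (s := fun j => σ (ax j) ^ c) (fun i => pow_ne_zero _ ((map_ne_zero σ).2 (hay i)))
    (fun j => pow_ne_zero _ ((map_ne_zero σ).2 (hax j)))]
  congr 1
  funext i j
  simp only
  rw [hy' i, hx' j, LinearMap.smul_apply, (y i).map_smul, smul_eq_mul, smul_eq_mul, map_mul, map_mul, mul_pow,
    mul_pow]

end ker

end Cfsg.Agent.H353.Ker
end

-- part: H69/Ppd/SUNat
section
/-!
# The natural module of `SU(N, q)` over the root group datum of a Witt frame (helper69, TEAM PPD)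

`W : WFrame (PU hK N) m`, `o : Fin m` the first node, `2 ≤ m`; `Y = SU N K q`, `X = WittModel.X (modelSU hK hN W)`.

* `nat K q N : SU N K q →* End K (K^N)`; `nat_irr` : it is simple;
* `e_mem_D`, `D_nat` : `V^U = ⟨e_o⟩`; **`Jx_nat`** : `J = {i | i ≠ o}`;
* `fdual`, `fdual_mem` : `h(·, f_o)` is fixed by `U⁻`;
* `exists_act` : transitivity on the nonzero isotropic vectors;
* `hom_psi`: `t e_o = ψ(t) e_o`.
-/

set_option autoImplicit false
set_option linter.unusedSectionVars false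

namespace Cfsg.Agent.H69.Ppd

open CoxeterSystem Cfsg.Agent.ChevalleyStructure.CoxeterGeom Cfsg.Agent.Tits.Roots Cfsg.Agent.Nodes.TypeC
open Cfsg.Agent.Nodes.Comb Cfsg.Agent.Nodes.Reps Cfsg.Agent.Nodes.WittRoot Cfsg.Agent.Nodes.BNOf
open Cfsg.Agent.Nodes.WittRGD Cfsg.Agent.Nodes.RGDLib Cfsg.Agent.Nodes.WittAll Cfsg.Agent.Nodes
open Cfsg.Agent.TitsThree Cfsg.Agent.TitsThree.Siegel Cfsg.Agent.TitsThree.WittFrame
  Cfsg.Agent.TitsThree.WittWeyl Cfsg.Agent.TitsThree.FrameCN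
open Cfsg.Agent.LieClassical.HermBasic Cfsg.Agent.LieClassical.HermSiegel Cfsg.Agent.LieClassical.HermGen
open Cfsg.Agent.TitsThree.KSideU Cfsg.Agent.TitsThree.KSideUDesc Cfsg.Agent.Nodes.WittU
  Cfsg.Agent.TitsThree.WBridge Cfsg.Agent.TitsThree.SiegelGen Cfsg.Agent.H61.SUCross
open Cfsg.Agent.Nodes.Bruhat Cfsg.Agent.Nodes.OppDec Cfsg.Agent.Nodes.LeviDec Cfsg.Agent.KFacts.RgdOpp
  Cfsg.Agent.Omega.CR Cfsg.Agent.Omega.FOne.Lift.Sd Cfsg.Agent.H911 Cfsg.Agent.H905.Md Cfsg.Agent.H156.Ppd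
open Cfsg Cfsg.Geo Cfsg.Agent.H67
open scoped MatrixGroups Matrix

section nat

variable (K : Type*) [Field K] (q N : ℕ)

/-- the natural module -/
noncomputable def nat : SU N K q →* Module.End K (Fin N → K) where
  toFun g := (toLin K q N g : (Fin N → K) →ₗ[K] (Fin N → K))
  map_one' := by rw [map_one]; rfl
  map_mul' a b := by rw [map_mul]; rfl

variable {K q N}

theorem nat_apply (g : SU N K q) (v : Fin N → K) : nat K q N g v = act g v := rfl

end nat

/-! ### the mirror of `rg_fix` -/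

section mirror

open Cfsg.Agent.H925.Nat

variable {F : Type*} [Field F] {V : Type*} [AddCommGroup V] [Module F V] {H : HForm F V} {n : ℕ}
  {Fr : Frame H (Fin n)}

theorem ng_eq_neg (a : Fin n × Bool) : ng a = neg a := rfl

theorem rg_fix' (hn : 1 < n) {o : Fin n} (ho : (o : ℕ) = 0) {W : Type*} [Group W]
    {cs : CoxeterSystem (CoxeterMatrix.B n) W} {x : Fin n → ℤ} (hx : IsRoot cs (isCartan n) x) (hxo : x o ≤ 0)
    {g : V ≃ₗ[F] V} (hg : g ∈ WittRoot.rg Fr x) : g (Fr.b (o, false)) = Fr.b (o, false) := by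
  obtain ⟨a, b, hab, e⟩ := exists_of_isRoot cs hx
  rw [rg_eq Fr hab e] at hg
  rw [← ee_zero hn ho x, e] at hxo
  have h0 : 0 ≤ (wt (ng a) + wt (ng b)) o := by
    rw [wt_ng, wt_ng]
    simp only [Pi.add_apply, Pi.neg_apply] at hxo ⊢
    omega
  obtain ⟨h1, h2⟩ := neg_ne_of_wt hab.ng h0
  refine PG_fix hab ?_ ?_ hg
  · rintro h3
    apply h1
    have h4 := congrArg neg h3
    rw [WittFrame.neg_neg] at h4
    rw [ng_eq_neg, WittFrame.neg_neg]
    exact h4
  · rintro h3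
    apply h2
    have h4 := congrArg neg h3
    rw [WittFrame.neg_neg] at h4
    rw [ng_eq_neg, WittFrame.neg_neg]
    exact h4

end mirror

open Cfsg.Agent.H925.Nat

variable {K : Type*} [Field K] [Fintype K] {q N m : ℕ} {hK : Fintype.card K = q ^ 2} (hN : 3 ≤ N)
  (W : WFrame (PU hK N) m)

/-- transitivity on isotropic vectors -/
theorem exists_act (hK : Fintype.card K = q ^ 2) (hN : 3 ≤ N) {u v : Fin N → K} (hu : hermForm N K q u u = 0)
    (hv : hermForm N K q v v = 0) (hu0 : u ≠ 0) (hv0 : v ≠ 0) : ∃ g : SU N K q, act g u = v := by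
  obtain ⟨g, -, hg⟩ := exists_map_iso hK (k := N) hN le_rfl (mem_coordSub_top u) (mem_coordSub_top v) hu0 hv0 hu hv
  exact ⟨g, hg⟩

theorem nat_irr' (hK : Fintype.card K = q ^ 2) (hN : 3 ≤ N) (L : Submodule K (Fin N → K))
    (hL : ∀ g : SU N K q, ∀ v ∈ L, act g v ∈ L) : L = ⊥ ∨ L = ⊤ := by
  refine H918.SUg_irreducible hK hN L ?_
  rintro _ ⟨a, ha, rfl⟩ _ ⟨v, hv, rfl⟩
  obtain ⟨g, rfl⟩ := H918.exists_suHom ha
  rw [Matrix.toLin'_apply]
  exact hL g v hv

section

variable {Wg : Type*} [Group Wg] {cs : CoxeterSystem (CoxeterMatrix.B m) Wg}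

theorem nat_irr (L : Submodule K (Fin N → K))
    (hL : Ivt (nat K q N) (GG cs (isCartan m) (WittModel.T (modelSU hK hN W)) (WittModel.X (modelSU hK hN W))) L)
    (hm : 0 < m) : L = ⊥ ∨ L = ⊤ := by
  refine nat_irr' hK hN L fun g v hv => hL g ?_ v hv
  rw [gg_top (WittModel.G1_eq_top _ hm _)]
  trivial

variable {o : Fin m}

theorem X_fix_e (hm : 1 < m) (ho : (o : ℕ) = 0) {x : Fin m → ℤ} (hx : IsRoot cs (isCartan m) x) (hxo : 0 ≤ x o)
    {g : SU N K q} (hg : g ∈ WittModel.X (modelSU hK hN W) x) : act g (W.e o) = W.e o := by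
  rw [X_eq] at hg
  exact rg_fix (Fr := toFrame W) hm ho hx hxo hg

theorem X_fix_f (hm : 1 < m) (ho : (o : ℕ) = 0) {x : Fin m → ℤ} (hx : IsRoot cs (isCartan m) x) (hxo : x o ≤ 0)
    {g : SU N K q} (hg : g ∈ WittModel.X (modelSU hK hN W) x) : act g (W.f o) = W.f o := by
  rw [X_eq] at hg
  exact rg_fix' (Fr := toFrame W) hm ho hx hxo hg

/-- the stabiliser of a vector -/
def stv (v : Fin N → K) : Subgroup (SU N K q) where
  carrier := {g | act g v = v}
  one_mem' := act_one v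
  mul_mem' := by
    intro a b (ha : act a v = v) (hb : act b v = v)
    change act (a * b) v = v
    rw [act_mul, hb, ha]
  inv_mem' := by
    intro a (ha : act a v = v)
    change act a⁻¹ v = v
    conv_lhs => rw [← ha]
    exact act_inv_act a v

theorem mem_stv {v : Fin N → K} {g : SU N K q} : g ∈ stv v ↔ act g v = v := Iff.rfl

theorem e_mem_D (hm : 1 < m) (ho : (o : ℕ) = 0) :
    W.e o ∈ D cs (isCartan m) (WittModel.X (modelSU hK hN W)) (nat K q N) := by
  have h1 : RGD.Sup (WittModel.X (modelSU hK hN W)) (RGD.Pos cs (isCartan m)) ≤ stv (W.e o) :=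
    RGD.Sup_le fun x hx u hu => X_fix_e hN W hm ho hx.1 (hx.2 o) hu
  exact fun g hg => h1 hg

/-- `h(·, f_o)` -/
noncomputable def fdual (w : Fin N → K) : Module.Dual K (Fin N → K) where
  toFun v := hermForm N K q v w
  map_add' a b := herm_add_left a b w
  map_smul' c a := herm_smul_left c a w

theorem fdual_apply (w v : Fin N → K) : fdual (q := q) w v = hermForm N K q v w := rfl

theorem dual_fdual (g : SU N K q) (w : Fin N → K) :
    dualRep (nat K q N) g (fdual (q := q) w) = fdual (q := q) (act g w) := by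
  refine LinearMap.ext fun v => ?_
  rw [dualRep_apply, fdual_apply, fdual_apply, nat_apply]
  have := herm_act g (act g⁻¹ v) w
  rw [act_act_inv] at this
  exact this.symm

theorem fdual_mem (hm : 1 < m) (ho : (o : ℕ) = 0) :
    fdual (q := q) (W.f o) ∈ fx ((dualRep (nat K q N) :)) (UN cs (isCartan m) (WittModel.X (modelSU hK hN W))) := by
  have h1 : UN cs (isCartan m) (WittModel.X (modelSU hK hN W)) ≤ stv (W.f o) :=
    RGD.Sup_le fun x hx u hu => X_fix_f hN W hm ho hx.1 (hx.2 o) hu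
  intro g hg
  rw [dual_fdual, mem_stv.1 (h1 hg)]

theorem e_ne_zero (i : Fin m) : W.e i ≠ 0 := b_ne_zero (Fr := toFrame W) (i, true)

theorem f_ne_zero (i : Fin m) : W.f i ≠ 0 := b_ne_zero (Fr := toFrame W) (i, false)

theorem herm_ef (i : Fin m) : hermForm N K q (W.e i) (W.f i) = 1 := by
  have := W.ef i i
  rwa [if_pos rfl] at this

theorem herm_ee (i : Fin m) : hermForm N K q (W.e i) (W.e i) = 0 := W.ee i i

theorem herm_ff (i : Fin m) : hermForm N K q (W.f i) (W.f i) = 0 := W.ff i i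

theorem fdual_ne (i : Fin m) : fdual (q := q) (W.f i) ≠ 0 := by
  intro h0
  have h1 := congrArg (fun φ : Module.Dual K (Fin N → K) => φ (W.e i)) h0
  simp only [fdual_apply, herm_ef] at h1
  exact one_ne_zero h1

/-- the eigenvalue of the torus -/
noncomputable def psi (i : Fin m) (t : SU N K q) : K := hermForm N K q (act t (W.e i)) (W.f i)

theorem psi_spec (i : Fin m) {t : SU N K q} (ht : t ∈ WittModel.T (modelSU hK hN W)) :
    nat K q N t (W.e i) = psi W i t • W.e i := apply_e hN W i ⟨t, ht⟩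

theorem psi_ne (i : Fin m) {t : SU N K q} (ht : t ∈ WittModel.T (modelSU hK hN W)) : psi W i t ≠ 0 := by
  intro h0
  have h1 := psi_spec hN W i ht
  rw [h0, zero_smul] at h1
  exact e_ne_zero W i ((act_eq_zero t).1 h1)

theorem psi_mul (i : Fin m) {s t : SU N K q} (hs : s ∈ WittModel.T (modelSU hK hN W))
    (ht : t ∈ WittModel.T (modelSU hK hN W)) : psi W i (s * t) = psi W i s * psi W i t := by
  have h1 := psi_spec hN W i (mul_mem hs ht)
  have h2 := psi_spec hN W i ht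
  have h3 := psi_spec hN W i hs
  rw [rho_mul, h2, map_smul, h3, smul_smul] at h1
  have h4 := smul_left_injective K (e_ne_zero W i) h1
  rw [← h4, mul_comm]

/-- an element of `X_{-o}` moving `e_o` -/
theorem exists_move (hm : 1 < m) (ho : (o : ℕ) = 0) :
    ∃ g ∈ WittModel.X (modelSU hK hN W) (-sr o), act g (W.e o) ≠ W.e o := by
  have h1 : (o : ℕ) + 1 < m := by omega
  have hnx : nx o = (⟨(o : ℕ) + 1, h1⟩, false) := by unfold nx; rw [dif_pos h1]
  have hne : (ng (o, true) : Fin m × Bool).1 ≠ (ng (nx o)).1 := by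
    rw [hnx]
    simp [ng, Fin.ext_iff]
  obtain ⟨g, hg⟩ := X_mem hK W (ng (nx o)) (ng (o, true)) (1 : K)
  refine ⟨g, ?_, ?_⟩
  · rw [X_eq, Subgroup.mem_comap, rg_neg_sr, PG_ne _ hne, XG_swap _ hne]
    exact ⟨1, hg⟩
  · intro h2
    have h3 : (toFrame W).X (ng (nx o)) (ng (o, true)) 1 ((toFrame W).b (neg (ng (o, true)))) =
        (toFrame W).b (neg (ng (o, true))) + (1 : K) • (toFrame W).b (ng (nx o)) :=
      X_apply_neg (toFrame W) (Ne.symm hne) 1
    rw [← hg] at h3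
    have h4 : (toFrame W).b (neg (ng (o, true))) = W.e o := rfl
    rw [h4, _root_.one_smul] at h3
    have h5 : toLin K q N g (W.e o) = W.e o := h2
    rw [h5] at h3
    exact b_ne_zero (Fr := toFrame W) (ng (nx o)) (left_eq_add.1 h3)

theorem D_nat (hm : 1 < m) (ho : (o : ℕ) = 0) :
    D cs (isCartan m) (WittModel.X (modelSU hK hN W)) (nat K q N) = Submodule.span K {W.e o} := by
  haveI : Finite Wg := finite_W cs
  obtain ⟨p, hp⟩ := CharP.exists K
  haveI : Fact p.Prime := ⟨CharP.char_is_prime K p⟩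
  obtain ⟨p0, hp0, -⟩ := exists_adm hK W
  have R := rgdC_model (modelSU hK hN W) (AmbT.of_amb (amb_U hK W) p) hp0 cs
  have hne : Nontrivial (Fin N → K) := ⟨_, 0, e_ne_zero W o⟩
  exact fx_eq_span R (nat K q N) (fun L hL => nat_irr hN W L hL (by omega)) (e_mem_D hN W hm ho)
    (e_ne_zero W o) (fun t ht => psi_spec hN W o ht)

/-- **The type of the natural module** -/
theorem Jx_nat (hm : 1 < m) (ho : (o : ℕ) = 0) :
    Jx cs (isCartan m) (WittModel.X (modelSU hK hN W)) (nat K q N) = {i | i ≠ o} := by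
  ext i
  constructor
  · rintro hi rfl
    obtain ⟨g, hg, hne⟩ := exists_move hN W hm ho
    exact hne (hi g hg _ (e_mem_D hN W hm ho))
  · intro hi x hx v hv
    rw [D_nat hN W hm ho] at hv
    obtain ⟨a, rfl⟩ := Submodule.mem_span_singleton.1 hv
    rw [map_smul]
    congr 1
    refine X_fix_e hN W hm ho (isRoot_sr cs _ i).neg ?_ hx
    rw [Pi.neg_apply, sr_ne (Ne.symm hi), neg_zero]

end

end Cfsg.Agent.H69.Ppd
end
end

-- part: H69/Ppd/SUFirst_mg
section
prune_inst 0x44000080000000000000400024020a0000000000000000000800068000000000002020000100100080000000000000100000000000000000000000000000000006000000a008000000000000000000000000000000000000000000000000000000000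
set_option linter.all false
open scoped Cfsg.Agent.FastGrp

-- part: H69/Ppd/KerFive
section
/-!
# The kernel `h(x, y) ^ c` on the isotropic vectors of a Hermitian space with a frame of rank two (helper69, TEAM PPD)

* `mem_of_poly` : coefficient extraction;
* `IsFr` : frames `b x` (`x : Fin 2 × Bool`), `d`;
* **`rank_ge`** : `M` a set of exponents `0 < m < c` with `C(c, m) ≠ 0` in the field, `M₁ ⊆ M` a set of powers of `p`:
  `4 + 4 |M| + 4 |M₁| ≤ dim ⟨h(·, w) ^ c⟩`.
-/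

set_option autoImplicit false
set_option linter.unusedSectionVars false

namespace Cfsg.Agent.H69.Ppd

open Cfsg Cfsg.Agent.LieClassical.HermBasic Matrix

/-! ### Coefficients -/

section poly

variable {K k V : Type*} [Field K] [Fintype K] [Field k] [AddCommGroup V] [Module k V]

/-- **coefficient extraction** -/
theorem mem_of_poly (σ : K →+* k) (R : Submodule k V) {c : ℕ} (hc : c < Fintype.card K) (u : ℕ → V)
    (h : ∀ s : K, ∑ m ∈ Finset.range (c + 1), σ s ^ m • u m ∈ R) {m : ℕ} (hm : m ≤ c) : u m ∈ R := by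
  classical
  by_contra hcon
  obtain ⟨φ, hφ, hR⟩ := Submodule.exists_le_ker_of_notMem hcon
  let P : Polynomial k := ∑ i ∈ Finset.range (c + 1), Polynomial.C (φ (u i)) * Polynomial.X ^ i
  have hP : P = 0 := by
    refine Polynomial.eq_zero_of_natDegree_lt_card_of_eval_eq_zero (ι := K) P (f := σ) σ.injective ?_ ?_
    · intro s
      have h1 := hR (h s)
      rw [LinearMap.mem_ker, map_sum] at h1
      rw [← h1]
      simp only [P, Polynomial.eval_finset_sum, Polynomial.eval_mul, Polynomial.eval_C, Polynomial.eval_pow,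
        Polynomial.eval_X, map_smul, smul_eq_mul]
      exact Finset.sum_congr rfl fun i _ => mul_comm _ _
    · refine lt_of_le_of_lt (Polynomial.natDegree_sum_le_of_forall_le (n := c) _ _ fun i hi => ?_) hc
      refine (Polynomial.natDegree_C_mul_X_pow_le _ _).trans ?_
      rw [Finset.mem_range] at hi
      omega
  have h2 : P.coeff m = φ (u m) := by
    simp only [P, Polynomial.finset_sum_coeff, Polynomial.coeff_C_mul, Polynomial.coeff_X_pow]
    rw [Finset.sum_eq_single m]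
    · rw [if_pos rfl, mul_one]
    · intro b _ hb
      rw [if_neg (Ne.symm hb), mul_zero]
    · intro h3
      rw [Finset.mem_range] at h3
      omega
  rw [hP, Polynomial.coeff_zero] at h2
  exact hφ h2.symm

end poly

/-! ### Frames -/

section frame

variable {K : Type*} [Field K] [Fintype K] {q N : ℕ}

/-- the opposite index -/
def op (x : Fin 2 × Bool) : Fin 2 × Bool := (x.1, !x.2)

theorem op_op (x : Fin 2 × Bool) : op (op x) = x := by
  obtain ⟨a, b⟩ := x
  simp [op]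

/-- A frame. -/
structure IsFr (q : ℕ) (b : Fin 2 × Bool → Fin N → K) (d : Fin N → K) : Prop where
  bb : ∀ x y, hermForm N K q (b x) (b y) = if y = op x then 1 else 0
  bd : ∀ x, hermForm N K q (b x) d = 0
  db : ∀ x, hermForm N K q d (b x) = 0
  dd : hermForm N K q d d = 1

variable {b : Fin 2 × Bool → Fin N → K} {d : Fin N → K}

/-- the vector with the coordinates `a`, `z` -/
def vc (b : Fin 2 × Bool → Fin N → K) (d : Fin N → K) (a : Fin 2 × Bool → K) (z : K) : Fin N → K :=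
  ∑ x, a x • b x + z • d

variable (hK : Fintype.card K = q ^ 2) (hb : IsFr q b d)
include hb

theorem vc_b (a : Fin 2 × Bool → K) (z : K) (x : Fin 2 × Bool) :
    hermForm N K q (vc b d a z) (b (op x)) = a x := by
  unfold vc
  rw [herm_add_left, herm_sum_left, herm_smul_left, hb.db, mul_zero, add_zero, Finset.sum_eq_single x]
  · rw [herm_smul_left, hb.bb, if_pos rfl, mul_one]
  · intro y _ hy
    rw [herm_smul_left, hb.bb, if_neg, mul_zero]
    intro h
    apply hy
    rw [← op_op x, h, op_op]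
  · intro h; exact absurd (Finset.mem_univ _) h

theorem vc_d (a : Fin 2 × Bool → K) (z : K) : hermForm N K q (vc b d a z) d = z := by
  unfold vc
  rw [herm_add_left, herm_sum_left, herm_smul_left, hb.dd, mul_one, Finset.sum_eq_zero, zero_add]
  intro x _
  rw [herm_smul_left, hb.bd, mul_zero]

include hK in
theorem vc_self (a : Fin 2 × Bool → K) (z : K) : hermForm N K q (vc b d a z) (vc b d a z) =
    ∑ x, a (op x) * a x ^ q + z * z ^ q := by
  conv_lhs => arg 5; unfold vc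
  rw [herm_add_right hK, herm_sum_right hK, herm_smul_right, vc_d hb]
  congr 1
  · refine Finset.sum_congr rfl fun x _ => ?_
    rw [herm_smul_right]
    have h1 := vc_b hb a z (op x)
    rw [op_op] at h1
    rw [h1, mul_comm]
  · rw [mul_comm]

theorem vc_ne_of_a {a : Fin 2 × Bool → K} {z : K} {x : Fin 2 × Bool} (h : a x ≠ 0) : vc b d a z ≠ 0 := by
  intro h0
  have h1 := vc_b hb a z x
  rw [h0, herm_zero_left] at h1
  exact h h1.symm

end frame

/-! ### The independence of the monomials -/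

section indep

variable {K k : Type*} [Field K] [Fintype K] [Field k] {q : ℕ}

/-- **the independence**, in coordinates -/
theorem coef_zero (hK : Fintype.card K = q ^ 2) (σ : K →+* k) {c : ℕ} (hc0 : c ≠ 0) (hc : c < Fintype.card K)
    {M M₁ : Finset ℕ} (hM : ∀ m ∈ M, 0 < m ∧ m < c) (hM₁ : M₁ ⊆ M) (P : Fin 2 × Bool → k)
    (A : Bool → Bool → M → k) (E : Fin 2 × Bool → M₁ → k)
    (h : ∀ (a : Fin 2 × Bool → K) (z : K), (∃ x, a x ≠ 0) → ∑ x, a (op x) * a x ^ q + z * z ^ q = 0 →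
      ∑ x, P x * σ (a x) ^ c + ∑ e, ∑ e', ∑ m : M, A e e' m * (σ (a (0, e)) ^ (m : ℕ) * σ (a (1, e')) ^ (c - m)) +
        ∑ x, ∑ m : M₁, E x m * (σ z ^ (m : ℕ) * σ (a x) ^ (c - m)) = 0) :
    (∀ x, P x = 0) ∧ (∀ e e' m, A e e' m = 0) ∧ ∀ x m, E x m = 0 := by
  classical
  have hq := (q_pos hK).ne'
  -- first step
  have h1 : ∀ e e', P (0, e) = 0 ∧ P (1, e') = 0 ∧ ∀ m, A e e' m = 0 := by
    intro e e'
    let u : ℕ → k := fun i => (if i = c then P (0, e) else 0) + (if i = 0 then P (1, e') else 0) +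
      ∑ m : M, if i = m then A e e' m else 0
    have hu : ∀ s : K, ∑ i ∈ Finset.range (c + 1), σ s ^ i • u i ∈ (⊥ : Submodule k k) := by
      intro s
      rw [Submodule.mem_bot]
      let a : Fin 2 × Bool → K := fun x => if x = (0, e) then s else if x = (1, e') then 1 else 0
      have ha := h a 0 ⟨(1, e'), by simp [a]⟩ (by
        rw [zero_mul, add_zero]
        refine Finset.sum_eq_zero fun x _ => ?_
        have : a (op x) = 0 ∨ a x = 0 := by
          simp only [a, op]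
          obtain ⟨i, b⟩ := x
          fin_cases i <;> cases b <;> cases e <;> cases e' <;> simp
        rcases this with h2 | h2
        · rw [h2, zero_mul]
        · rw [h2, zero_pow hq, mul_zero])
      have e3 : ∑ x, ∑ m : M₁, E x m * (σ (0 : K) ^ (m : ℕ) * σ (a x) ^ (c - m)) = 0 := by
        refine Finset.sum_eq_zero fun x _ => Finset.sum_eq_zero fun m _ => ?_
        rw [map_zero, zero_pow (hM m (hM₁ m.2)).1.ne', zero_mul, mul_zero]
      rw [e3, add_zero] at ha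
      have e1 : ∑ x, P x * σ (a x) ^ c = P (0, e) * σ s ^ c + P (1, e') := by
        rw [Fintype.sum_prod_type, Fin.sum_univ_two, Fintype.sum_bool, Fintype.sum_bool]
        cases e <;> cases e' <;> simp [a, hc0]
      have e2 : ∑ f, ∑ f', ∑ m : M, A f f' m * (σ (a (0, f)) ^ (m : ℕ) * σ (a (1, f')) ^ (c - m)) =
          ∑ m : M, A e e' m * σ s ^ (m : ℕ) := by
        rw [Finset.sum_eq_single e, Finset.sum_eq_single e']
        · refine Finset.sum_congr rfl fun m _ => ?_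
          simp only [a, _root_.Fin.isValue, ↓ _root_.reduceIte, _root_.Prod.mk.injEq, _root_.one_ne_zero, _root_.false_and, _root_.map_one, _root_.one_pow, _root_.mul_one]
        · intro f' _ hf'
          refine Finset.sum_eq_zero fun m _ => ?_
          have h5 : a (1, f') = 0 := by simp [a, hf']
          rw [h5, map_zero, zero_pow (by have := (hM m m.2).2; omega), mul_zero, mul_zero]
        · intro h4; exact absurd (Finset.mem_univ _) h4
        · intro f _ hf
          refine Finset.sum_eq_zero fun f' _ => Finset.sum_eq_zero fun m _ => ?_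
          have h5 : a (0, f) = 0 := by simp [a, hf]
          rw [h5, map_zero, zero_pow (hM m m.2).1.ne', zero_mul, mul_zero]
        · intro h4; exact absurd (Finset.mem_univ _) h4
      rw [e1, e2] at ha
      rw [← ha]
      simp only [u, smul_eq_mul, mul_add, Finset.sum_add_distrib, mul_ite, mul_zero, Finset.mul_sum]
      congr 1
      · congr 1
        · rw [Finset.sum_ite_eq', if_pos (by simp), mul_comm]
        · rw [Finset.sum_ite_eq', if_pos (by simp only [_root_.Finset.mem_range, _root_.lt_add_iff_pos_left, _root_.Order.lt_add_one_iff, _root_.zero_le]), pow_zero, one_mul]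
      · rw [Finset.sum_comm]
        refine Finset.sum_congr rfl fun m _ => ?_
        rw [Finset.sum_ite_eq', if_pos (by have := (hM m m.2).2; simp; omega), mul_comm]
    have hall : ∀ i ≤ c, u i = 0 := fun i hi => (Submodule.mem_bot k).1 (mem_of_poly σ ⊥ hc u hu hi)
    refine ⟨?_, ?_, fun m => ?_⟩
    · have h2 := hall c le_rfl
      simp only [u, if_pos, if_neg hc0, add_zero] at h2
      rw [Finset.sum_eq_zero, add_zero] at h2
      · exact h2
      · intro m _
        rw [if_neg]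
        have := (hM m m.2).2
        omega
    · have h2 := hall 0 (Nat.zero_le _)
      simp only [u, if_pos, if_neg hc0.symm, zero_add] at h2
      rw [Finset.sum_eq_zero, add_zero] at h2
      · exact h2
      · intro m _
        rw [if_neg]
        have := (hM m m.2).1
        omega
    · have hm := hM m m.2
      have h2 := hall m hm.2.le
      simp only [u] at h2
      rw [if_neg hm.2.ne, if_neg hm.1.ne', zero_add, zero_add, Finset.sum_eq_single m] at h2
      · rwa [if_pos rfl] at h2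
      · intro m' _ hm'
        rw [if_neg]
        intro h3
        exact hm' (Subtype.ext h3.symm)
      · intro h4; exact absurd (Finset.mem_univ _) h4
  have hP : ∀ x, P x = 0 := by
    rintro ⟨i, e⟩
    fin_cases i
    · exact (h1 e e).1
    · exact (h1 e e).2.1
  have hA : ∀ e e' m, A e e' m = 0 := fun e e' => (h1 e e').2.2
  refine ⟨hP, hA, ?_⟩
  -- second step
  obtain ⟨s, hs⟩ := exists_trace_eq hK (c := (-1 : K)) (by rw [neg_pow_q hK, one_pow])
  intro y m₀
  let x : Fin 2 × Bool := (1 - y.1, true)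
  let u : ℕ → k := fun i => (if i = 0 then ∑ m : M₁, E x m + ∑ m : M₁, E (op x) m * σ s ^ (c - m) else 0) +
    ∑ m : M₁, if i = c - m then E y m else 0
  have hu : ∀ r : K, ∑ i ∈ Finset.range (c + 1), σ r ^ i • u i ∈ (⊥ : Submodule k k) := by
    intro r
    rw [Submodule.mem_bot]
    let a : Fin 2 × Bool → K := fun w => if w = x then 1 else if w = op x then s else if w = y then r else 0
    have ha := h a 1 ⟨x, by simp [a]⟩ (by
      rw [Fintype.sum_prod_type, Fin.sum_univ_two, Fintype.sum_bool, Fintype.sum_bool, one_mul, one_pow]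
      obtain ⟨i, e⟩ := y
      fin_cases i <;> cases e <;> simp only [a, x, op, hq, _root_.Fin.isValue, _root_.Fin.zero_eta, _root_.sub_zero, _root_.Bool.not_true, _root_.Prod.mk.injEq, _root_.zero_ne_one, _root_.Bool.false_eq_true, _root_.and_self, ↓ _root_.reduceIte, _root_.and_true, _root_.Bool.true_eq_false, _root_.and_false, _root_.ne_eq, _root_.not_false_eq_true, _root_.zero_pow, _root_.MulZeroClass.mul_zero, _root_.Bool.not_false, _root_.MulZeroClass.zero_mul, _root_.add_zero, _root_.one_pow, _root_.mul_one, _root_.one_mul, _root_.zero_add, _root_.Fin.mk_one, _root_.sub_self, _root_.one_ne_zero] <;> linear_combination hs)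
    simp only [hP, hA, zero_mul, Finset.sum_const_zero, add_zero, zero_add, map_one, one_pow, one_mul] at ha
    have e1 : ∑ w, ∑ m : M₁, E w m * σ (a w) ^ (c - m) =
        ∑ m : M₁, E x m + ∑ m : M₁, E (op x) m * σ s ^ (c - m) + ∑ m : M₁, E y m * σ r ^ (c - m) := by
      have hz : ∀ w m, a w = 0 → E w m * σ (a w) ^ (c - (m : M₁)) = 0 := by
        intro w m hw
        rw [hw, map_zero, zero_pow (by have := (hM m (hM₁ m.2)).2; omega), mul_zero]
      have hy : a (op y) = 0 := by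
        obtain ⟨i, e⟩ := y
        fin_cases i <;> cases e <;> simp [a, x, op]
      have hyy : a y = r := by
        obtain ⟨i, e⟩ := y
        fin_cases i <;> cases e <;> simp [a, x, op]
      have hx : a x = 1 := by simp [a]
      have hxx : a (op x) = s := by simp [a, x, op]
      have hsum : ∀ g : Fin 2 × Bool → k, ∑ w, g w = g x + g (op x) + g y + g (op y) := by
        intro g
        rw [Fintype.sum_prod_type, Fin.sum_univ_two, Fintype.sum_bool, Fintype.sum_bool]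
        obtain ⟨i, e⟩ := y
        fin_cases i <;> cases e <;> simp only [x, op, _root_.Fin.isValue, _root_.Fin.zero_eta, _root_.sub_zero, _root_.Bool.not_true, _root_.Bool.not_false, _root_.Fin.mk_one, _root_.sub_self] <;> ring
      rw [hsum]
      rw [Finset.sum_eq_zero (s := Finset.univ) (f := fun m : M₁ => E (op y) m * σ (a (op y)) ^ (c - (m : ℕ)))
        (fun m _ => hz _ m hy), add_zero, hx, hxx, hyy]
      simp only [_root_.Finset.univ_eq_attach, _root_.map_one, _root_.one_pow, _root_.mul_one]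
    rw [e1] at ha
    rw [← ha]
    simp only [u, smul_eq_mul, mul_add, Finset.sum_add_distrib, mul_ite, mul_zero, Finset.mul_sum]
    congr 1
    · rw [Finset.sum_ite_eq', if_pos (by simp only [_root_.Finset.mem_range, _root_.lt_add_iff_pos_left, _root_.Order.lt_add_one_iff, _root_.zero_le]), pow_zero]
      simp only [one_mul]
    · rw [Finset.sum_comm]
      refine Finset.sum_congr rfl fun m _ => ?_
      rw [Finset.sum_ite_eq', if_pos (by simp only [_root_.Finset.mem_range, _root_.Order.lt_add_one_iff, _root_.tsub_le_iff_right, _root_.le_add_iff_nonneg_right, _root_.zero_le]), mul_comm]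
  have hall : ∀ i ≤ c, u i = 0 := fun i hi => (Submodule.mem_bot k).1 (mem_of_poly σ ⊥ hc u hu hi)
  have hm := hM m₀ (hM₁ m₀.2)
  have h2 := hall (c - m₀) (Nat.sub_le _ _)
  simp only [u] at h2
  rw [if_neg (by omega), zero_add, Finset.sum_eq_single m₀] at h2
  · rwa [if_pos rfl] at h2
  · intro m' _ hm'
    rw [if_neg]
    intro h3
    have hm2 := hM m' (hM₁ m'.2)
    exact hm' (Subtype.ext (by omega))
  · intro h4; exact absurd (Finset.mem_univ _) h4

end indep

/-! ### The rank -/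

/-- nonzero isotropic vectors -/
def Is (q N : ℕ) (K : Type*) [Field K] : Type _ := {v : Fin N → K // hermForm N K q v v = 0 ∧ v ≠ 0}

section rank

variable {K k : Type*} [Field K] [Fintype K] [Field k] {q N : ℕ}

instance finite_Is : Finite (Is q N K) := by unfold Is; infer_instance

/-- the kernel -/
def kr (q N : ℕ) (σ : K →+* k) (c : ℕ) (w v : Is q N K) : k := σ (hermForm N K q v.1 w.1) ^ c

/-- the space of the rows -/
def Rw (q N : ℕ) (σ : K →+* k) (c : ℕ) : Submodule k (Is q N K → k) := Submodule.span k (Set.range (kr q N σ c))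

variable (hK : Fintype.card K = q ^ 2) {σ : K →+* k} {c : ℕ} (hc0 : c ≠ 0)
include hK hc0

theorem row_mem {w : Fin N → K} (hw : hermForm N K q w w = 0) :
    (fun v : Is q N K => σ (hermForm N K q v.1 w) ^ c) ∈ Rw q N σ c := by
  by_cases h0 : w = 0
  · have : (fun v : Is q N K => σ (hermForm N K q v.1 w) ^ c) = 0 := by
      funext v
      rw [h0, herm_zero_right hK, map_zero, zero_pow hc0]
      rfl
    rw [this]
    exact zero_mem _
  · exact Submodule.subset_span ⟨⟨w, hw, h0⟩, rfl⟩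

theorem two_mem (hc : c < Fintype.card K) {a b : Fin N → K} (ha : hermForm N K q a a = 0)
    (hb : hermForm N K q b b = 0) (hab : hermForm N K q a b = 0) {m : ℕ} (hm : m ≤ c)
    (hcm : ((c.choose m : ℕ) : k) ≠ 0) :
    (fun v : Is q N K => σ (hermForm N K q v.1 a) ^ m * σ (hermForm N K q v.1 b) ^ (c - m)) ∈ Rw q N σ c := by
  have hba : hermForm N K q b a = 0 := herm_eq_zero_swap hK hab
  let u : ℕ → (Is q N K → k) := fun m v => ((c.choose m : ℕ) : k) *
    (σ (hermForm N K q v.1 a) ^ m * σ (hermForm N K q v.1 b) ^ (c - m))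
  have h1 : u m ∈ Rw q N σ c := by
    refine mem_of_poly σ (Rw q N σ c) hc u (fun s => ?_) hm
    have h2 := row_mem (σ := σ) (c := c) hK hc0 (w := s ^ q • a + b) (by
      rw [herm_add_left, herm_add_right hK, herm_add_right hK, herm_smul_left, herm_smul_left, herm_smul_right,
        herm_smul_right, ha, hab, hba, hb]
      ring)
    convert h2 using 1
    funext v
    rw [Finset.sum_apply, herm_add_right hK, herm_smul_right, pow_q_pow_q hK, map_add, map_mul, add_pow]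
    refine Finset.sum_congr rfl fun i _ => ?_
    simp only [u, Pi.smul_apply, smul_eq_mul]
    ring
  have h2 := (Rw q N σ c).smul_mem ((c.choose m : ℕ) : k)⁻¹ h1
  convert h2 using 1
  funext v
  simp only [u, Pi.smul_apply, smul_eq_mul]
  rw [inv_mul_cancel_left₀ hcm]

variable {b : Fin 2 × Bool → Fin N → K} {d : Fin N → K} (hb : IsFr q b d)
include hb

theorem mono_mem (hc : c < Fintype.card K) {x y : Fin 2 × Bool} (hxy : x.1 ≠ y.1) {m : ℕ} (hm : m ≤ c)
    (hcm : ((c.choose m : ℕ) : k) ≠ 0) :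
    (fun v : Is q N K => σ (hermForm N K q v.1 (b x)) ^ m * σ (hermForm N K q v.1 (b y)) ^ (c - m)) ∈
      Rw q N σ c := by
  have h1 : ∀ z, hermForm N K q (b z) (b z) = 0 := by
    rintro ⟨i, e⟩
    rw [hb.bb, if_neg]
    cases e <;> simp [op]
  refine two_mem hK hc0 hc (h1 x) (h1 y) ?_ hm hcm
  rw [hb.bb, if_neg]
  intro h2
  exact hxy (congrArg Prod.fst h2).symm

theorem dmono_mem (hc : c < Fintype.card K) {p : ℕ} [hp : Fact p.Prime] [CharP k p] {y : Fin 2 × Bool} {m e : ℕ}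
    (hme : m = p ^ e) (hm : m ≤ c) (hcm : ((c.choose m : ℕ) : k) ≠ 0) :
    (fun v : Is q N K => σ (hermForm N K q v.1 d) ^ m * σ (hermForm N K q v.1 (b y)) ^ (c - m)) ∈
      Rw q N σ c := by
  obtain ⟨s, hs⟩ := exists_trace_eq hK (c := (-1 : K)) (by rw [neg_pow_q hK, one_pow])
  let x : Fin 2 × Bool := (1 - y.1, true)
  have hxy : x.1 ≠ y.1 := by
    obtain ⟨i, e⟩ := y
    fin_cases i <;> simp [x]
  have hxy' : (op x).1 ≠ y.1 := hxy
  have hbb : ∀ z, hermForm N K q (b z) (b z) = 0 := by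
    rintro ⟨i, e⟩
    rw [hb.bb, if_neg]
    cases e <;> simp [op]
  have h1 := two_mem (σ := σ) hK hc0 hc (a := b x + (d + s • b (op x))) (b := b y) (by
    rw [herm_add_left, herm_add_left, herm_smul_left, herm_add_right hK, herm_add_right hK, herm_smul_right,
      herm_add_right hK, herm_add_right hK, herm_smul_right, herm_add_right hK, herm_add_right hK, herm_smul_right,
      hbb, hbb, hb.bd, hb.bd, hb.db, hb.db, hb.dd, hb.bb, hb.bb, if_pos rfl, if_pos (op_op x).symm]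
    linear_combination hs) (hbb y) (by
    have h2 : ∀ z : Fin 2 × Bool, z.1 ≠ y.1 → hermForm N K q (b z) (b y) = 0 := by
      intro z hz
      rw [hb.bb, if_neg]
      intro h2
      exact hz (congrArg Prod.fst h2).symm
    rw [herm_add_left, herm_add_left, herm_smul_left, hb.db, h2 _ hxy, h2 _ hxy']
    ring) hm hcm
  have h2 := mono_mem (σ := σ) hK hc0 hb hc hxy hm hcm
  have h3 := (Rw q N σ c).smul_mem (σ (s ^ q) ^ m) (mono_mem (σ := σ) hK hc0 hb hc hxy' hm hcm)
  have h4 := (Rw q N σ c).sub_mem ((Rw q N σ c).sub_mem h1 h2) h3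
  convert h4 using 1
  funext v
  simp only [Pi.sub_apply, Pi.smul_apply, smul_eq_mul]
  rw [herm_add_right hK, herm_add_right hK, herm_smul_right, map_add, map_add, map_mul, hme, add_pow_char_pow,
    add_pow_char_pow, mul_pow]
  ring

omit [Fintype K] hK hc0 hb in
theorem sum_three {M : Type*} [Fintype M] (G : Bool × Bool × M → k) :
    ∑ t, G t = ∑ e, ∑ e', ∑ m, G (e, e', m) := by
  rw [Fintype.sum_prod_type]
  exact Finset.sum_congr rfl fun e _ => Fintype.sum_prod_type _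

/-- **The lower bound for the rank.** -/
theorem rank_ge (hc : c < Fintype.card K) {p : ℕ} [hp : Fact p.Prime] [CharP k p] {M M₁ : Finset ℕ}
    (hM : ∀ m ∈ M, 0 < m ∧ m < c ∧ ((c.choose m : ℕ) : k) ≠ 0) (hM₁ : M₁ ⊆ M) (hpw : ∀ m ∈ M₁, ∃ e, m = p ^ e) :
    4 + 4 * M.card + 4 * M₁.card ≤ Module.finrank k (Rw q N σ c) := by
  classical
  -- the coordinates
  let α : Fin 2 × Bool → Is q N K → k := fun x v => σ (hermForm N K q v.1 (b (op x)))
  let ζ : Is q N K → k := fun v => σ (hermForm N K q v.1 d)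
  let g : ((Fin 2 × Bool) ⊕ ((Bool × Bool × M) ⊕ ((Fin 2 × Bool) × M₁))) → Rw q N σ c := Sum.elim
    (fun x => ⟨fun v => α x v ^ c, by
      have h1 := mono_mem (σ := σ) hK hc0 hb hc (x := op x) (y := (1 - x.1, true)) (by
        obtain ⟨i, e⟩ := x
        (revert i; simp only [op, _root_.Fin.forall_fin_succ, Fin.isValue, _root_.ne_eq, _root_.sub_zero, _root_.zero_ne_one, _root_.not_false_eq_true, _root_.Fin.succ_zero_eq_one, _root_.sub_self, _root_.one_ne_zero, _root_.IsEmpty.forall_iff, _root_.and_self])) le_rfl (by rw [Nat.choose_self]; simp)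
      simpa using h1⟩)
    (Sum.elim
      (fun t => ⟨fun v => α (0, t.1) v ^ (t.2.2 : ℕ) * α (1, t.2.1) v ^ (c - t.2.2),
        mono_mem (σ := σ) hK hc0 hb hc (x := op (0, t.1)) (y := op (1, t.2.1)) (by simp [op])
          (hM _ t.2.2.2).2.1.le (hM _ t.2.2.2).2.2⟩)
      (fun t => ⟨fun v => ζ v ^ (t.2 : ℕ) * α t.1 v ^ (c - t.2), by
        obtain ⟨e, he⟩ := hpw _ t.2.2
        exact dmono_mem (σ := σ) hK hc0 hb hc he (hM _ (hM₁ t.2.2)).2.1.le (hM _ (hM₁ t.2.2)).2.2⟩))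
  have hli : LinearIndependent k g := by
    rw [Fintype.linearIndependent_iff]
    intro a ha
    have h0 : ∀ v : Is q N K, ∑ x, a (Sum.inl x) * α x v ^ c +
        ∑ e, ∑ e', ∑ m : M, a (Sum.inr (Sum.inl (e, e', m))) * (α (0, e) v ^ (m : ℕ) * α (1, e') v ^ (c - m)) +
        ∑ x, ∑ m : M₁, a (Sum.inr (Sum.inr (x, m))) * (ζ v ^ (m : ℕ) * α x v ^ (c - m)) = 0 := by
      intro v
      have h1 := congrFun (congrArg Subtype.val ha) v
      rw [Submodule.coe_sum, Finset.sum_apply, Fintype.sum_sum_type, Fintype.sum_sum_type, sum_three,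
        Fintype.sum_prod_type (α₁ := Fin 2 × Bool), ← add_assoc] at h1
      exact h1
    have key := coef_zero (k := k) hK σ hc0 hc (fun m hm => ⟨(hM m hm).1, (hM m hm).2.1⟩) hM₁
      (fun x => a (Sum.inl x)) (fun e e' m => a (Sum.inr (Sum.inl (e, e', m))))
      (fun x m => a (Sum.inr (Sum.inr (x, m)))) (by
        rintro z t ⟨x, hx⟩ hz
        have h1 := h0 ⟨vc b d z t, by rw [vc_self hK hb, hz], vc_ne_of_a hb hx⟩
        simp only [α, ζ, vc_b hb, vc_d hb] at h1
        exact h1)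
    rintro (x | ⟨e, e', m⟩ | ⟨x, m⟩)
    · exact key.1 x
    · exact key.2.1 e e' m
    · exact key.2.2 x m
  have hfin : Module.Finite k (Rw q N σ c) := FiniteDimensional.span_of_finite k (Set.finite_range _)
  have h1 := hli.fintype_card_le_finrank
  simp only [Fintype.card_sum, Fintype.card_prod, Fintype.card_coe, Fintype.card_bool, Fintype.card_fin] at h1
  omega

end rank

end Cfsg.Agent.H69.Ppd
end

-- part: H525/Ppd/URank
section
/-!
# The rank of `h ^ a` on the isotropic vectors of a Hermitian plane curve (helper525)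

Continuation of `H929/UThreePlanes`, `H929/UThreeClass`:
* `rank_planes'` : `3 q ≤ rank` if every residue modulo `q + 1` is covered;
* `rank_triple` : `27 ≤ rank` for `a = 1 + r ^ 2 + r ^ 4`, `q = r ^ 3`, `r = p ^ g`.
-/

set_option autoImplicit false
set_option linter.unusedSectionVars false

namespace Cfsg.Agent.H525.Ppd

open Cfsg Cfsg.Agent.LieClassical.HermSiegel Cfsg.Agent.LieClassical.HermBasic Matrix Cfsg.Agent.H906
  Cfsg.Agent.H929.U3 Cfsg.Agent.H929.U3.Dig

variable {E : Type*} [Field E] [Fintype E] {q : ℕ} {K : Type*} [Field K] {κ : Type} [Fintype κ] [DecidableEq κ]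

/-- **three planes** -/
theorem rank_planes' (hF : Fintype.card E = q ^ 2) {j : E →+* K} {a : ℕ} {Φ V : Iso q E → κ → K} (h : Ker q j a Φ V)
    (ha : a < q ^ 2) (hcov : ∀ i, ∃ k, ((a.choose k : ℕ) : K) ≠ 0 ∧ q + 1 ∣ i + k) :
    3 * q ≤ Fintype.card κ := by
  classical
  have hq := two_le hF
  obtain ⟨ζ, hζ⟩ := exists_zeta hF
  obtain ⟨ε, hε⟩ := _root_.Cfsg.Agent.LieClassical.HermBasic.exists_norm_eq hF (c := (-1 : E)) (by rw [neg_pow_q hF, one_pow])
  have hζ1 : ζ * ζ ^ q = 1 := by rw [← pow_succ']; exact hζ.pow_eq_one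
  have hζ0 : ζ ≠ 0 := by
    rintro rfl
    rw [zero_mul] at hζ1
    exact zero_ne_one hζ1
  have hε0 : ε ≠ 0 := by
    rintro rfl
    rw [zero_mul] at hε
    exact one_ne_zero (neg_eq_zero.1 hε.symm)
  have ht : ∀ s : ℕ, (ε * ζ ^ s) * (ε * ζ ^ s) ^ q = -1 := by
    intro s
    have h1 : (ζ ^ s) * (ζ ^ s) ^ q = 1 := by
      rw [← pow_mul, mul_comm s q, pow_mul, ← mul_pow, hζ1, one_pow]
    rw [mul_pow]
    linear_combination (ζ ^ s * (ζ ^ s) ^ q) * hε - h1
  -- the root of unity in `K`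
  have hω : IsPrimitiveRoot (j ζ) (q + 1) := hζ.map_of_injective j.injective
  -- rows
  let row : (i k : Fin 3) → i ≠ k → ℕ → κ → K := fun i k hik m =>
    ∑ s ∈ Finset.range (q + 1), j ζ ^ (m * s) • Φ ⟨uP i k (ε * ζ ^ s), herm_uP_self hik (ht s), uP_ne hik _⟩
  have hrow : ∀ (i k : Fin 3) (hik : i ≠ k) (m : ℕ) (w : Iso q E),
      row i k hik m ⬝ᵥ V w = gP q j ε ζ a m (w.1 i) (w.1 k) := by
    intro i k hik m w
    simp only [row, gP, sum_dotProduct, smul_dotProduct, h.coef, herm_uP, smul_eq_mul]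
  let Tw : Fin 3 → Iso q E → Iso q E := fun m w => ⟨tw ζ m w.1, by rw [herm_tw hζ1]; exact w.2.1, tw_ne hζ0 m w.2.2⟩
  have hTw : ∀ m w l, (Tw m w).1 l = if l = m then ζ * w.1 l else w.1 l := fun _ _ _ => rfl
  have hd : ∀ m, j ζ ^ m = 1 ↔ q + 1 ∣ m := fun m => hω.pow_eq_one_iff_dvd m
  have h01 : (0 : Fin 3) ≠ 1 := by decide
  have h02 : (0 : Fin 3) ≠ 2 := by decide
  have h12 : (1 : Fin 3) ≠ 2 := by decide
  -- the good exponents for the third plane
  set S3 : Finset (Fin q) := Finset.univ.filter fun x => ¬ q + 1 ∣ a + (x + 1) with hS3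
  have hS3c : q - 1 ≤ S3.card := by
    have h1 : (Finset.univ.filter fun x : Fin q => q + 1 ∣ a + (x + 1)).card ≤ 1 := by
      rw [Finset.card_le_one]
      intro x hx y hy
      rw [Finset.mem_filter] at hx hy
      by_contra hne
      have hne' : (x : ℕ) ≠ y := fun h => hne (Fin.ext h)
      have hx2 := x.2
      have hy2 := y.2
      rcases lt_or_gt_of_ne hne' with hlt | hlt
      · have h3 := Nat.le_of_dvd (by omega) (Nat.dvd_sub hy.2 hx.2)
        omega
      · have h3 := Nat.le_of_dvd (by omega) (Nat.dvd_sub hx.2 hy.2)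
        omega
    have h2 : (Finset.univ.filter fun x : Fin q => q + 1 ∣ a + (x + 1)).card + S3.card = q := by
      rw [hS3]
      have h3 := Finset.card_filter_add_card_filter_not (s := (Finset.univ : Finset (Fin q)))
        (fun x : Fin q => q + 1 ∣ a + (x + 1))
      rw [Finset.card_univ, Fintype.card_fin] at h3
      exact h3
    omega
  let A : Fin (q + 1) ⊕ Fin q ⊕ S3 → κ → K := Sum.elim (fun m => row 0 1 h01 m)
    (Sum.elim (fun m => row 0 2 h02 (m + 1)) (fun m => row 1 2 h12 ((m : Fin q) + 1)))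
  let χ₁ : Fin (q + 1) ⊕ Fin q ⊕ S3 → K := Sum.elim (fun m => j ζ ^ (m : ℕ))
    (Sum.elim (fun _ => 1) (fun m => (j ζ ^ (a + (((m : Fin q) : ℕ) + 1)))⁻¹))
  let χ₂ : Fin (q + 1) ⊕ Fin q ⊕ S3 → K := Sum.elim (fun _ => 1)
    (Sum.elim (fun m => j ζ ^ ((m : ℕ) + 1)) (fun m => j ζ ^ (((m : Fin q) : ℕ) + 1)))
  have hcard := card_le_of_rows (V := V) A (indep_of_classes (Tw 1) (Tw 2) _ χ₁ χ₂ ?_ ?_ ?_ ?_)
  · rw [Fintype.card_sum, Fintype.card_sum, Fintype.card_fin, Fintype.card_fin, Fintype.card_coe] at hcard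
    omega
  · rintro (m | m | m) w
    · change row 0 1 h01 m ⬝ᵥ V (Tw 1 w) = j ζ ^ (m : ℕ) * (row 0 1 h01 m ⬝ᵥ V w)
      rw [hrow 0 1 h01, hrow 0 1 h01, hTw, hTw, if_neg h01, if_pos rfl, gP_right hζ]
    · change row 0 2 h02 (m + 1) ⬝ᵥ V (Tw 1 w) = 1 * (row 0 2 h02 (m + 1) ⬝ᵥ V w)
      rw [hrow 0 2 h02, hrow 0 2 h02, hTw, hTw, if_neg h01, if_neg h12.symm, one_mul]
    · change row 1 2 h12 ((m : Fin q) + 1) ⬝ᵥ V (Tw 1 w) =
        (j ζ ^ (a + (((m : Fin q) : ℕ) + 1)))⁻¹ * (row 1 2 h12 ((m : Fin q) + 1) ⬝ᵥ V w)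
      rw [hrow 1 2 h12, hrow 1 2 h12, hTw, hTw, if_pos rfl, if_neg h12.symm, gP_left hζ]
  · rintro (m | m | m) w
    · change row 0 1 h01 m ⬝ᵥ V (Tw 2 w) = 1 * (row 0 1 h01 m ⬝ᵥ V w)
      rw [hrow 0 1 h01, hrow 0 1 h01, hTw, hTw, if_neg h02, if_neg h12, one_mul]
    · change row 0 2 h02 (m + 1) ⬝ᵥ V (Tw 2 w) = j ζ ^ ((m : ℕ) + 1) * (row 0 2 h02 (m + 1) ⬝ᵥ V w)
      rw [hrow 0 2 h02, hrow 0 2 h02, hTw, hTw, if_neg h02, if_pos rfl, gP_right hζ]
    · change row 1 2 h12 ((m : Fin q) + 1) ⬝ᵥ V (Tw 2 w) =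
        j ζ ^ (((m : Fin q) : ℕ) + 1) * (row 1 2 h12 ((m : Fin q) + 1) ⬝ᵥ V w)
      rw [hrow 1 2 h12, hrow 1 2 h12, hTw, hTw, if_neg h12, if_pos rfl, gP_right hζ]
  · have key : ∀ i : ℕ, ∃ β, gP q j ε ζ a i 1 β ≠ 0 := by
      intro i
      obtain ⟨k, hk, hik⟩ := hcov i
      exact exists_gP_ne hF hζ hε0 ha hk hik
    rintro (m | m | m) h0
    · obtain ⟨β, hβ⟩ := key m
      obtain ⟨γ, hγ⟩ := exists_gamma hF β
      have h1 := congrFun h0 ⟨![1, β, γ], by
        rw [herm_def, Fin.sum_univ_three]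
        simp [hγ], fun hh => by simpa using congrFun hh 0⟩
      change row 0 1 h01 m ⬝ᵥ V _ = 0 at h1
      rw [hrow 0 1 h01] at h1
      exact hβ h1
    · obtain ⟨β, hβ⟩ := key (m + 1)
      obtain ⟨γ, hγ⟩ := exists_gamma hF β
      have h1 := congrFun h0 ⟨![1, γ, β], by
        rw [herm_def, Fin.sum_univ_three]
        simp only [hγ, _root_.Fin.isValue, _root_.Matrix.cons_val_zero, _root_.one_pow, _root_.mul_one, _root_.Matrix.cons_val_one, _root_.Matrix.cons_val]
        ring, fun hh => by simpa using congrFun hh 0⟩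
      change row 0 2 h02 (m + 1) ⬝ᵥ V _ = 0 at h1
      rw [hrow 0 2 h02] at h1
      exact hβ h1
    · obtain ⟨β, hβ⟩ := key ((m : Fin q) + 1)
      obtain ⟨γ, hγ⟩ := exists_gamma hF β
      have h1 := congrFun h0 ⟨![γ, 1, β], by
        rw [herm_def, Fin.sum_univ_three]
        simp only [hγ, _root_.Fin.isValue, _root_.Matrix.cons_val_zero, _root_.Matrix.cons_val_one, _root_.one_pow, _root_.mul_one, _root_.Matrix.cons_val]
        ring, fun hh => by simpa using congrFun hh 1⟩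
      change row 1 2 h12 ((m : Fin q) + 1) ⬝ᵥ V _ = 0 at h1
      rw [hrow 1 2 h12] at h1
      exact hβ h1
  · have hone : ∀ m, m < q + 1 → j ζ ^ m = 1 → m = 0 := by
      intro m hm h1
      exact hω.pow_inj hm (by omega) (by rw [h1, pow_zero])
    have hinv : ∀ x : S3, (j ζ ^ (a + (((x : Fin q) : ℕ) + 1)))⁻¹ ≠ 1 := by
      intro x hx
      have h1 := (hd _).1 (inv_eq_one.1 hx)
      exact (Finset.mem_filter.1 x.2).2 h1
    rintro (m | m | m) (m' | m' | m') h1 h2
    · change j ζ ^ (m : ℕ) = j ζ ^ (m' : ℕ) at h1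
      have := hω.pow_inj m.2 m'.2 h1
      rw [Fin.ext this]
    · change (1 : K) = j ζ ^ ((m' : ℕ) + 1) at h2
      have := hone _ (by omega) h2.symm
      omega
    · change (1 : K) = j ζ ^ (((m' : Fin q) : ℕ) + 1) at h2
      have := hone _ (by omega) h2.symm
      omega
    · change j ζ ^ ((m : ℕ) + 1) = (1 : K) at h2
      have := hone _ (by omega) h2
      omega
    · change j ζ ^ ((m : ℕ) + 1) = j ζ ^ ((m' : ℕ) + 1) at h2
      have := hω.pow_inj (by omega) (by omega) h2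
      rw [Fin.ext (by omega : (m : ℕ) = m')]
    · change (1 : K) = (j ζ ^ (a + (((m' : Fin q) : ℕ) + 1)))⁻¹ at h1
      exact absurd h1.symm (hinv m')
    · change j ζ ^ (((m : Fin q) : ℕ) + 1) = (1 : K) at h2
      have := hone _ (by omega) h2
      omega
    · change (j ζ ^ (a + (((m : Fin q) : ℕ) + 1)))⁻¹ = (1 : K) at h1
      exact absurd h1 (hinv m)
    · change j ζ ^ (((m : Fin q) : ℕ) + 1) = j ζ ^ (((m' : Fin q) : ℕ) + 1) at h2
      have h3 := hω.pow_inj (by omega) (by omega) h2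
      have h4 : m = m' := Subtype.ext (Fin.ext (by omega))
      rw [h4]

/-! ### The exponent `1 + r ^ 2 + r ^ 4`, `q = r ^ 3` -/

/-- exponents of the rows, first and second factor -/
def row1 : Fin 3 → ℕ × ℕ × ℕ := ![(0, 0, 1), (0, 0, 0), (1, 0, 0)]
/-- exponents of the columns, first and second factor -/
def col1 : Fin 3 → ℕ × ℕ × ℕ := ![(0, 0, 0), (0, 0, 1), (1, 0, 0)]
/-- exponents of the rows, third factor -/
def row3 : Fin 5 → ℕ × ℕ × ℕ := ![(0, 0, 1), (0, 0, 0), (0, 1, 0), (1, 1, 0), (0, 0, 0)]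
/-- exponents of the columns, third factor -/
def col3 : Fin 5 → ℕ × ℕ × ℕ := ![(0, 0, 0), (0, 0, 1), (0, 1, 0), (0, 0, 0), (1, 1, 0)]

/-- sum of the exponents -/
def ex3 (r : ℕ) (u : ℕ × ℕ × ℕ) (w : ℕ × ℕ × ℕ) (v : ℕ × ℕ × ℕ) : ℕ × ℕ × ℕ :=
  (u.1 + r * w.1 + r ^ 2 * v.1, u.2.1 + r * w.2.1 + r ^ 2 * v.2.1, u.2.2 + r * w.2.2 + r ^ 2 * v.2.2)

theorem ex_inj {r a b c a' b' c' : ℕ} (hr : 2 ≤ r) (ha : a ≤ 1) (hb : b ≤ 1) (hc : c ≤ 1) (ha' : a' ≤ 1) (hb' : b' ≤ 1)
    (hc' : c' ≤ 1) (h : a + r * b + r ^ 2 * c = a' + r * b' + r ^ 2 * c') : a = a' ∧ b = b' ∧ c = c' := by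
  have h4 : 2 * r ≤ r ^ 2 := by rw [pow_two]; exact Nat.mul_le_mul_right _ hr
  interval_cases a <;> interval_cases b <;> interval_cases c <;> interval_cases a' <;> interval_cases b' <;>
    interval_cases c' <;> first | exact ⟨rfl, rfl, rfl⟩ | (exfalso; omega)

theorem ex3_inj {r : ℕ} (hr : 2 ≤ r) {u w v u' w' v' : ℕ × ℕ × ℕ}
    (hu : u.1 ≤ 1 ∧ u.2.1 ≤ 1 ∧ u.2.2 ≤ 1) (hw : w.1 ≤ 1 ∧ w.2.1 ≤ 1 ∧ w.2.2 ≤ 1) (hv : v.1 ≤ 1 ∧ v.2.1 ≤ 1 ∧ v.2.2 ≤ 1)
    (hu' : u'.1 ≤ 1 ∧ u'.2.1 ≤ 1 ∧ u'.2.2 ≤ 1) (hw' : w'.1 ≤ 1 ∧ w'.2.1 ≤ 1 ∧ w'.2.2 ≤ 1)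
    (hv' : v'.1 ≤ 1 ∧ v'.2.1 ≤ 1 ∧ v'.2.2 ≤ 1) (h : ex3 r u w v = ex3 r u' w' v') : u = u' ∧ w = w' ∧ v = v' := by
  simp only [ex3, Prod.mk.injEq] at h
  obtain ⟨h1, h2, h3⟩ := h
  have e1 := ex_inj hr hu.1 hw.1 hv.1 hu'.1 hw'.1 hv'.1 h1
  have e2 := ex_inj hr hu.2.1 hw.2.1 hv.2.1 hu'.2.1 hw'.2.1 hv'.2.1 h2
  have e3 := ex_inj hr hu.2.2 hw.2.2 hv.2.2 hu'.2.2 hw'.2.2 hv'.2.2 h3
  refine ⟨Prod.ext e1.1 (Prod.ext e2.1 e3.1), Prod.ext e1.2.1 (Prod.ext e2.2.1 e3.2.1),
    Prod.ext e1.2.2 (Prod.ext e2.2.2 e3.2.2)⟩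

theorem row1_le : ∀ i, (row1 i).1 ≤ 1 ∧ (row1 i).2.1 ≤ 1 ∧ (row1 i).2.2 ≤ 1 := by decide
theorem col1_le : ∀ i, (col1 i).1 ≤ 1 ∧ (col1 i).2.1 ≤ 1 ∧ (col1 i).2.2 ≤ 1 := by decide
theorem row3_le : ∀ i, (row3 i).1 ≤ 1 ∧ (row3 i).2.1 ≤ 1 ∧ (row3 i).2.2 ≤ 1 := by decide
theorem col3_le : ∀ i, (col3 i).1 ≤ 1 ∧ (col3 i).2.1 ≤ 1 ∧ (col3 i).2.2 ≤ 1 := by decide
theorem row1_inj : ∀ i k, row1 i = row1 k → i = k := by decide
theorem col1_inj : ∀ i k, col1 i = col1 k → i = k := by decide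
theorem rc3 : ∀ i k l : Fin 5, i < 3 → k < 3 → row3 i = row3 l → col3 k = col3 l → l = i ∧ l = k := by decide +kernel

theorem small_ex3 {r : ℕ} (hr : 2 ≤ r) {u w v : ℕ × ℕ × ℕ} (hu : u.1 ≤ 1 ∧ u.2.1 ≤ 1 ∧ u.2.2 ≤ 1)
    (hw : w.1 ≤ 1 ∧ w.2.1 ≤ 1 ∧ w.2.2 ≤ 1) (hv : v.1 ≤ 1 ∧ v.2.1 ≤ 1 ∧ v.2.2 ≤ 1) : _root_.Cfsg.Agent.H929.U3.Small (r ^ 3) (ex3 r u w v) := by
  have key : ∀ a b c : ℕ, a ≤ 1 → b ≤ 1 → c ≤ 1 → a + r * b + r ^ 2 * c < r ^ 3 := by
    intro a b c ha hb hc
    have h1 : r * b ≤ r * 1 := Nat.mul_le_mul_left _ hb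
    have h2 : r ^ 2 * c ≤ r ^ 2 * 1 := Nat.mul_le_mul_left _ hc
    have h3 : 2 * r ^ 2 ≤ r ^ 3 := by
      rw [pow_succ r 2, mul_comm]
      exact Nat.mul_le_mul_left _ hr
    have h4 : 2 * r ≤ r ^ 2 := by rw [pow_two]; exact Nat.mul_le_mul_right _ hr
    omega
  exact ⟨key _ _ _ hu.1 hw.1 hv.1, key _ _ _ hu.2.1 hw.2.1 hv.2.1, key _ _ _ hu.2.2 hw.2.2 hv.2.2⟩

/-- the signs -/
def sg3 (K : Type*) [Field K] : Fin 5 → K := ![-1, -1, 1, -1, -1]

/-- **the rank of `h ^ (1 + r ^ 2 + r ^ 4)`** -/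
theorem rank_triple {p : ℕ} [hp : Fact p.Prime] [CharP E p] [CharP K p] (hF : Fintype.card E = q ^ 2) {g : ℕ}
    (hg : 0 < g) (hq : q = (p ^ g) ^ 3) {j : E →+* K} {Φ V : Iso q E → κ → K}
    (h : Ker q j ((1 + (p ^ g) ^ 2) + q * p ^ g) Φ V) : 27 ≤ Fintype.card κ := by
  classical
  set r := p ^ g with hr
  have hr2 : 2 ≤ r := by
    have : p ^ 1 ≤ p ^ g := Nat.pow_le_pow_right hp.out.pos hg
    rw [pow_one] at this
    exact hp.out.two_le.trans this
  have hadd : ∀ x y : K, (x + y) ^ r = x ^ r + y ^ r := fun x y => add_pow_char_pow x y p g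
  have hadd2 : ∀ x y : K, (x + y) ^ r ^ 2 = x ^ r ^ 2 + y ^ r ^ 2 := by
    intro x y
    rw [hr, ← pow_mul]
    exact add_pow_char_pow x y p _
  have hneg : ∀ x : K, (-x) ^ r = - x ^ r := by
    intro x
    have h1 := hadd x (-x)
    rw [add_neg_cancel, zero_pow (by omega)] at h1
    exact (neg_eq_of_add_eq_zero_right h1.symm).symm
  have hS : ((Finset.univ : Finset (Fin 3 × Fin 3 × Fin 5)).filter fun t => t.2.2 < 3).card = 27 := by decide
  rw [← hS]
  refine h.pivot_diag hF (Finset.univ : Finset (Fin 3 × Fin 3 × Fin 5)) (fun t => sg3 K t.2.2)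
    (fun t => ex3 r (row1 t.1) (row3 t.2.2) (row1 t.2.1)) (fun t => ex3 r (col1 t.1) (col3 t.2.2) (col1 t.2.1))
    ?_ ?_ ?_ _ (Finset.filter_subset _ _) ?_ ?_
  · intro t _ _
    rw [hq]
    exact small_ex3 hr2 (row1_le _) (row3_le _) (row1_le _)
  · intro t _ _
    rw [hq]
    exact small_ex3 hr2 (col1_le _) (col3_le _) (col1_le _)
  · intro z w
    rw [pow_expand hF, pow_add, pow_one]
    simp only [mono]
    generalize j z.1.1 ^ q = xb
    generalize j w.1.1 ^ q = cb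
    generalize j z.1.1 = x
    generalize j w.1.1 = c
    generalize j z.1.2 = y
    generalize j w.1.2 = d
    have e1 : (-(y + d) - x * xb - c * cb + xb * cb) ^ r =
        -y ^ r - d ^ r - x ^ r * xb ^ r - c ^ r * cb ^ r + xb ^ r * cb ^ r := by
      rw [sub_eq_add_neg, sub_eq_add_neg, hadd, hadd, hadd, hneg, hneg, hneg, hadd, mul_pow, mul_pow, mul_pow]
      ring
    have e2 : (y + d + x * c) ^ r ^ 2 = y ^ r ^ 2 + d ^ r ^ 2 + x ^ r ^ 2 * c ^ r ^ 2 := by
      rw [hadd2, hadd2, mul_pow]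
    rw [e1, e2]
    simp only [Fintype.sum_prod_type, Fin.sum_univ_succ, Fin.sum_univ_zero, sg3, ex3, row1, col1, row3, col3,
      Matrix.cons_val_zero, Matrix.cons_val_succ, Matrix.cons_val_one, Finset.univ_eq_empty, Finset.sum_empty,
      pow_add, pow_zero, pow_one, mul_zero, mul_one, one_mul, Fin.isValue, Fin.succ_zero_eq_one]
    ring
  · intro s _
    have : ∀ i : Fin 5, sg3 K i ≠ 0 := by
      intro i
      (revert i; simp only [sg3, _root_.Fin.forall_fin_succ, _root_.ne_eq, Fin.isValue, _root_.Matrix.cons_val_zero, _root_.neg_eq_zero, _root_.one_ne_zero, _root_.not_false_eq_true, _root_.Matrix.cons_val_succ, _root_.Matrix.cons_val_fin_one, _root_.implies_true, _root_.and_self])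
    exact this _
  · rintro ⟨i, l, m⟩ hs ⟨i', l', m'⟩ hs' ⟨i'', l'', m''⟩ - - h1 h2
    have hm := (Finset.mem_filter.1 hs).2
    have hm' := (Finset.mem_filter.1 hs').2
    obtain ⟨e1, e2, e3⟩ := ex3_inj hr2 (row1_le _) (row3_le _) (row1_le _) (row1_le _) (row3_le _) (row1_le _) h1
    obtain ⟨f1, f2, f3⟩ := ex3_inj hr2 (col1_le _) (col3_le _) (col1_le _) (col1_le _) (col3_le _) (col1_le _) h2
    obtain ⟨g1, g2⟩ := rc3 _ _ _ hm hm' e2 f2
    have k1 := row1_inj _ _ e1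
    have k2 := row1_inj _ _ e3
    have k3 := col1_inj _ _ f1
    have k4 := col1_inj _ _ f3
    simp only at k1 k2 k3 k4 g1 g2
    rw [k1, k2, k3, k4, g1]
    exact ⟨rfl, by rw [← g1, g2]⟩

end Cfsg.Agent.H525.Ppd
end

-- part: H525/Ppd/UBound
section
/-!
# Lower bounds for the rank of `h ^ a`, `a` a multiple of `1 + Q + ... + Q ^ (N - 1)`, `Q ^ N = q ^ 2` (helper525)

* `ker_bound` : the rank is at least `6` for `N = 2` and at least `6 N` for `N ≥ 3`.
-/

set_option autoImplicit false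
set_option linter.unusedSectionVars false

namespace Cfsg.Agent.H525.Ppd

open Cfsg Cfsg.Agent.LieClassical.HermSiegel Cfsg.Agent.LieClassical.HermBasic Matrix Cfsg.Agent.H906
  Cfsg.Agent.H929.U3 Cfsg.Agent.H929.U3.Dig

section Digits

variable {p : ℕ} [hp : Fact p.Prime]

theorem dc_add {m l u v : ℕ} (hu : u < p ^ m) : dc p (m + l) (u + p ^ m * v) = dc p m u * dc p l v := by
  have hpos := hp.out.pos
  induction m generalizing u with
  | zero =>
    rw [pow_zero, Nat.lt_one_iff] at hu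
    subst hu
    rw [dc_zero, one_mul, zero_add, zero_add, pow_zero, one_mul]
  | succ m ih =>
    have h1 : (u + p ^ (m + 1) * v) % p = u % p := by
      rw [pow_succ', mul_assoc, Nat.add_mul_mod_self_left]
    have h2 : (u + p ^ (m + 1) * v) / p = u / p + p ^ m * v := by
      rw [pow_succ', mul_assoc, Nat.add_mul_div_left _ _ hpos]
    have h3 : u / p < p ^ m := by
      rw [Nat.div_lt_iff_lt_mul hpos, ← pow_succ]
      exact hu
    rw [show m + 1 + l = (m + l) + 1 by omega, dc_succ, dc_succ, h1, h2, ih h3, mul_assoc]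

/-- the repunit -/
def rep (Q c N : ℕ) : ℕ := c * ∑ i ∈ Finset.range N, Q ^ i

theorem rep_succ (Q c N : ℕ) : rep Q c (N + 1) = c + Q * rep Q c N := by
  unfold rep
  rw [Finset.sum_range_succ', mul_add, pow_zero, mul_one, add_comm, Finset.mul_sum, Finset.mul_sum, Finset.mul_sum]
  congr 1
  refine Finset.sum_congr rfl fun i _ => ?_
  rw [pow_succ]
  ring

theorem dc_rep {s c : ℕ} (hc : c < p ^ s) (N : ℕ) : dc p (N * s) (rep (p ^ s) c N) = dc p s c ^ N := by
  induction N with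
  | zero => rw [zero_mul, pow_zero, dc_zero]
  | succ N ih =>
    rw [rep_succ, show (N + 1) * s = s + N * s by ring, dc_add hc, ih, pow_succ']

theorem rep_lt {Q c N : ℕ} (hc : c < Q) : rep Q c N < Q ^ N := by
  induction N with
  | zero => simp [rep]
  | succ N ih =>
    rw [rep_succ, pow_succ']
    have h1 : Q * (rep Q c N + 1) ≤ Q * Q ^ N := Nat.mul_le_mul_left _ ih
    rw [mul_add, mul_one] at h1
    omega

theorem rep_pos {Q c N : ℕ} (hc : 1 ≤ c) (hN : 1 ≤ N) : 1 ≤ rep Q c N := by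
  obtain ⟨M, rfl⟩ : ∃ M, N = M + 1 := ⟨N - 1, by omega⟩
  rw [rep_succ]
  omega

/-- rotation with the number of nonvanishing binomials -/
theorem rotate' {f a' a'' k : ℕ} (ha' : a' < p ^ f) (ha'' : a'' < p ^ f) (hk : k < f)
    (hs : a' / p ^ k % p + a'' / p ^ k % p + 2 ≤ p) :
    ∃ m u' v' u'' v'', m ≤ f ∧ a' = u' + p ^ m * v' ∧ a'' = u'' + p ^ m * v'' ∧
      (v' + p ^ (f - m) * u'') + (v'' + p ^ (f - m) * u') + 2 ≤ p ^ f ∧
      dc p f (v' + p ^ (f - m) * u'') * dc p f (v'' + p ^ (f - m) * u') = dc p f a' * dc p f a'' := by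
  have hpos := hp.out.pos
  refine ⟨k + 1, a' % p ^ (k + 1), a' / p ^ (k + 1), a'' % p ^ (k + 1), a'' / p ^ (k + 1), hk,
    (Nat.mod_add_div _ _).symm, (Nat.mod_add_div _ _).symm, ?_, ?_⟩
  · obtain ⟨g, rfl⟩ : ∃ g, f = g + (k + 1) := ⟨f - (k + 1), by omega⟩
    rw [Nat.add_sub_cancel]
    have key : ∀ b c : ℕ, b < p ^ (g + (k + 1)) →
        b / p ^ (k + 1) + p ^ g * (c % p ^ (k + 1)) + 1 ≤ p ^ (g + k) * (c / p ^ k % p + 1) := by
      intro b c hb
      have h1 : b / p ^ (k + 1) + 1 ≤ p ^ g := by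
        rw [Nat.succ_le_iff, Nat.div_lt_iff_lt_mul (pow_pos hpos _), ← pow_add]
        exact hb
      have h2 : c % p ^ k + 1 ≤ p ^ k := Nat.mod_lt _ (pow_pos hpos _)
      have h3 : p ^ g * (c % p ^ k + 1) ≤ p ^ g * p ^ k := Nat.mul_le_mul_left _ h2
      rw [Nat.mod_pow_succ, pow_add p g k]
      calc b / p ^ (k + 1) + p ^ g * (c % p ^ k + p ^ k * (c / p ^ k % p)) + 1
          ≤ p ^ g + p ^ g * (c % p ^ k + p ^ k * (c / p ^ k % p)) := by omega
        _ = p ^ g * (c % p ^ k + 1) + p ^ g * p ^ k * (c / p ^ k % p) := by ring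
        _ ≤ p ^ g * p ^ k + p ^ g * p ^ k * (c / p ^ k % p) := by omega
        _ = p ^ g * p ^ k * (c / p ^ k % p + 1) := by ring
    have h1 := key a' a'' ha'
    have h2 := key a'' a' ha''
    have h3 : p ^ (g + k) * (a' / p ^ k % p + a'' / p ^ k % p + 2) ≤ p ^ (g + k) * p := Nat.mul_le_mul_left _ hs
    have h4 : p ^ (g + (k + 1)) = p ^ (g + k) * p := by rw [← pow_succ]; rfl
    rw [h4]
    have h5 : p ^ (g + k) * (a' / p ^ k % p + a'' / p ^ k % p + 2) =
        p ^ (g + k) * (a' / p ^ k % p + 1) + p ^ (g + k) * (a'' / p ^ k % p + 1) := by ring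
    omega
  · obtain ⟨g, rfl⟩ : ∃ g, f = g + (k + 1) := ⟨f - (k + 1), by omega⟩
    rw [Nat.add_sub_cancel]
    have hlt : ∀ b : ℕ, b < p ^ (g + (k + 1)) → b / p ^ (k + 1) < p ^ g := by
      intro b hb
      rw [Nat.div_lt_iff_lt_mul (pow_pos hpos _), ← pow_add]
      exact hb
    have e1 : ∀ b : ℕ, dc p (g + (k + 1)) b = dc p (k + 1) (b % p ^ (k + 1)) * dc p g (b / p ^ (k + 1)) := by
      intro b
      conv_lhs => rw [← Nat.mod_add_div b (p ^ (k + 1)), add_comm g, dc_add (Nat.mod_lt _ (pow_pos hpos _))]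
    rw [dc_add (hlt _ ha'), dc_add (hlt _ ha''), e1 a', e1 a'']
    ring

end Digits

/-! ### Numbers -/

theorem pow_bound {N : ℕ} (hN : 4 ≤ N) : 6 * N + 1 ≤ 2 * 2 ^ N := by
  induction N, hN using Nat.le_induction with
  | base => norm_num
  | succ n hn ih =>
    rw [pow_succ]
    omega

theorem pow_bound3 {N : ℕ} (hN : 4 ≤ N) : (2 * N) ^ 2 ≤ 3 ^ N := by
  induction N, hN using Nat.le_induction with
  | base => norm_num
  | succ n hn ih =>
    have h1 : 3 ^ (n + 1) = 3 ^ n * 3 := pow_succ 3 n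
    have h2 : (2 * (n + 1)) ^ 2 = (2 * n) ^ 2 + 8 * n + 4 := by ring
    have h3 : 4 * n ≤ n * n := Nat.mul_le_mul_right _ hn
    have h4 : (2 * n) ^ 2 = 4 * (n * n) := by ring
    omega

theorem pow_bound8 {f : ℕ} (hf : 2 ≤ f) : 12 * f ≤ (2 ^ f) ^ 3 := by
  rw [← pow_mul, mul_comm f 3, pow_mul]
  norm_num
  induction f, hf using Nat.le_induction with
  | base => norm_num
  | succ n hn ih =>
    rw [pow_succ]
    omega

section

variable {E : Type*} [Field E] [Fintype E] {q : ℕ} {K : Type*} [Field K] {κ : Type} [Fintype κ] [DecidableEq κ]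
  {p : ℕ} [hp : Fact p.Prime] [CharP E p] [CharP K p]

/-- the bound of `rank_two` with `dc` -/
theorem rank_two' (hF : Fintype.card E = q ^ 2) {f : ℕ} (hq : q = p ^ f) {j : E →+* K} {a' a'' : ℕ}
    {Φ V : Iso q E → κ → K} (h : Ker q j (a' + q * a'') Φ V) (ha : a' + a'' < q) :
    2 * (dc p f a' * dc p f a'') ≤ Fintype.card κ + 1 := by
  classical
  have h1 := h.rank_two hF ha
  have hdc : ∀ a, ((Finset.range q).filter fun i => ((a.choose i : ℕ) : K) ≠ 0).card = dc p f a := by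
    intro a
    unfold dc
    rw [← hq]
    congr 1
    ext i
    rw [Finset.mem_filter, Finset.mem_filter, cast_ne_iff (p := p)]
    rfl
  rwa [hdc, hdc] at h1

/-- **the bound** -/
theorem ker_bound (hF : Fintype.card E = q ^ 2) {f : ℕ} (hq : q = p ^ f) {j : E →+* K} {Φ V : Iso q E → κ → K}
    {s N c : ℕ} (hNs : N * s = f + f) (hc1 : 1 ≤ c) (hc : c < p ^ s) (h : Ker q j (rep (p ^ s) c N) Φ V)
    (hN : 2 ≤ N) : 6 ≤ Fintype.card κ ∧ (3 ≤ N → 6 * N ≤ Fintype.card κ) := by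
  classical
  have hp2 := hp.out.two_le
  have hpos := hp.out.pos
  have hq2 := two_le hF
  have hf0 : 0 < f := by
    rcases Nat.eq_zero_or_pos f with h0 | h0
    · rw [h0, pow_zero] at hq
      omega
    · exact h0
  have hs0 : 0 < s := by
    rcases Nat.eq_zero_or_pos s with h0 | h0
    · rw [h0, mul_zero] at hNs
      omega
    · exact h0
  set Q := p ^ s with hQ
  have hQ2 : 2 ≤ Q := by
    have : p ^ 1 ≤ p ^ s := Nat.pow_le_pow_right hpos hs0
    rw [pow_one] at this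
    omega
  have hQN : Q ^ N = q ^ 2 := by
    rw [hQ, hq, ← pow_mul, ← pow_mul, mul_comm s, hNs]
    ring
  set a := rep Q c N with ha
  have halt : a < q ^ 2 := by rw [← hQN]; exact rep_lt hc
  have ha1 : 1 ≤ a := rep_pos hc1 (by omega)
  obtain ⟨a', a'', haa, ha', ha''⟩ : ∃ a' a'', a = a' + q * a'' ∧ a' < q ∧ a'' < q := by
    refine ⟨a % q, a / q, (Nat.mod_add_div _ _).symm, Nat.mod_lt _ (by omega), ?_⟩
    rw [Nat.div_lt_iff_lt_mul (by omega), ← pow_two]
    exact halt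
  set d := dc p s c with hd
  have hd2 : 2 ≤ d := two_le_dc hc1 hc
  have hD : dc p f a' * dc p f a'' = d ^ N := by
    rw [← dc_rep hc N, hNs, ← dc_add (hq ▸ ha'), ← hq, ← haa]
  -- the numeric consequence of `rank_two`
  have hnum : 2 * d ^ N ≤ Fintype.card κ + 1 → 6 ≤ Fintype.card κ ∧ (3 ≤ N → 6 * N ≤ Fintype.card κ) := by
    intro h1
    have h2 : 2 ^ N ≤ d ^ N := Nat.pow_le_pow_left hd2 N
    have h3 : 2 ^ 2 ≤ 2 ^ N := Nat.pow_le_pow_right (by norm_num) hN
    refine ⟨by omega, fun hN3 => ?_⟩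
    by_cases hN4 : 4 ≤ N
    · have := pow_bound hN4
      omega
    · obtain rfl : N = 3 := by omega
      by_cases hd3 : 3 ≤ d
      · have h4 : 3 ^ 3 ≤ d ^ 3 := Nat.pow_le_pow_left hd3 3
        omega
      · have hd2' : dc p s c = 2 := by omega
        obtain ⟨k, c₁, hck, hc₁⟩ := classify hc1 hc (by omega)
        obtain rfl : c₁ = 1 := by
          rcases hc₁ with h5 | ⟨i, -, -, h5⟩ <;> omega
        rw [mul_one] at hck
        obtain ⟨g, rfl⟩ : ∃ g, s = 2 * g := ⟨s / 2, by omega⟩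
        have hf3 : f = 3 * g := by omega
        have hrot : Rot E p a ((1 + (p ^ g) ^ 2) + q * p ^ g) := by
          have h6 : a = p ^ k * ((1 + (p ^ g) ^ 2) + q * p ^ g) := by
            rw [ha, rep, hck, hQ, hq, hf3]
            congr 1
            rw [Finset.sum_range_succ, Finset.sum_range_succ, Finset.sum_range_one]
            ring
          rw [h6]
          exact Rot.mul p k _
        obtain ⟨j', h'⟩ := h.rot hrot
        have := rank_triple (p := p) hF (by omega : 0 < g) (by rw [hq, hf3, ← pow_mul]; ring_nf) h'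
        omega
  rw [haa] at h
  by_cases hsum : a' + a'' < q
  · apply hnum
    have := rank_two' (p := p) hF hq h hsum
    rwa [hD] at this
  push Not at hsum
  by_cases hs : ∀ k < f, p ≤ a' / p ^ k % p + a'' / p ^ k % p + 1
  · have hcov := exists_cover_res (K := K) (p := p) hF hq ha' ha'' hs hsum
    by_cases hQ3 : 3 ≤ Q
    · have h1 := rank_planes' hF h (by rw [← haa]; exact halt) hcov
      refine ⟨by omega, fun hN3 => ?_⟩
      have h2 : 2 * N ≤ q := by
        have h3 : (2 * N) ^ 2 ≤ q ^ 2 := by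
          rw [← hQN]
          by_cases hN4 : 4 ≤ N
          · exact (pow_bound3 hN4).trans (Nat.pow_le_pow_left hQ3 N)
          · obtain rfl : N = 3 := by omega
            have h4 : 4 ≤ Q := by
              obtain ⟨g, rfl⟩ : ∃ g, s = 2 * g := ⟨s / 2, by omega⟩
              have h5 : p ^ 2 ≤ p ^ (2 * g) := Nat.pow_le_pow_right hpos (by omega)
              have h6 : 2 ^ 2 ≤ p ^ 2 := Nat.pow_le_pow_left hp2 2
              omega
            have h5 : 4 ^ 3 ≤ Q ^ 3 := Nat.pow_le_pow_left h4 3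
            omega
        exact (Nat.pow_le_pow_iff_left (by norm_num)).1 h3
      omega
    · -- `Q = 2` : the Steinberg module
      have hQe : Q = 2 := by omega
      have hce : c = 1 := by omega
      have hrep : ∀ M, rep 2 1 M + 1 = 2 ^ M := by
        intro M
        induction M with
        | zero => simp [rep]
        | succ M ih =>
          rw [rep_succ, pow_succ]
          omega
      have hae : a = q ^ 2 - 1 := by
        have := hrep N
        rw [ha, hQe, hce, ← hQN, hQe]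
        omega
      rw [← haa, hae] at h
      have h1 := h.steinberg hF
      have hs1 : s = 1 ∧ p = 2 := by
        have h2 : s < 2 := by
          by_contra hcon
          have h3 : p ^ 2 ≤ p ^ s := Nat.pow_le_pow_right hpos (by omega)
          have h4 : 2 ^ 2 ≤ p ^ 2 := Nat.pow_le_pow_left hp2 2
          omega
        have h3 : s = 1 := by omega
        rw [h3, pow_one] at hQ
        exact ⟨h3, by omega⟩
      obtain ⟨hs1, hp22⟩ := hs1
      have h8 : 2 ^ 3 ≤ q ^ 3 := Nat.pow_le_pow_left hq2 3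
      refine ⟨by omega, fun hN3 => ?_⟩
      rw [hs1, mul_one] at hNs
      have h3 := pow_bound8 (f := f) (by omega)
      rw [hp22] at hq
      rw [← hq] at h3
      omega
  · push Not at hs
    obtain ⟨k, hk, hs⟩ := hs
    obtain ⟨m, u', v', u'', v'', hm, h1, h2, h3, h4⟩ := rotate' (p := p) (hq ▸ ha') (hq ▸ ha'') hk (by omega)
    have hrot : Rot E p (a' + q * a'') ((v' + p ^ (f - m) * u'') + q * (v'' + p ^ (f - m) * u')) := by
      rw [h1, h2]
      exact Rot.rotate hF hq hm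
    obtain ⟨j', h'⟩ := h.rot hrot
    apply hnum
    have := rank_two' (p := p) hF hq h' (by omega)
    rw [h4, hD] at this
    exact this

end

end Cfsg.Agent.H525.Ppd
end

-- part: H69/Ppd/SUFirst
section
/-!
# Representations of `SU(N, q)` of the type of the natural module (helper69, TEAM PPD)

`2 ≤ m`, `W` a Witt frame of rank `m`, `o` the first node, `φ : SU N K q → GL(ι, F)` with absolutely irreducible
image `P`, `|K| = |F| ^ j`.

* `exists_tor` : `ψ : T → Kˣ` is surjective;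
* `tor_fix` : if `i ∈ J` for `i ≠ o` then `t ∈ T` with `ψ(t) = 1` fixes `V^U`;
* `exists_pow` : `χ(t) = σ(ψ(t)) ^ c`, `1 ≤ c < |K|`;
* **`first_bound`** : if `J = {i | i ≠ o}` then `rank (σ (h(x, y)) ^ rep |F| c' j) ≤ |ι|` for some `1 ≤ c' < |F|`.
-/

set_option autoImplicit false
set_option linter.unusedSectionVars false

namespace Cfsg.Agent.H69.Ppd

open CoxeterSystem Cfsg.Agent.ChevalleyStructure.CoxeterGeom Cfsg.Agent.Tits.Roots Cfsg.Agent.Nodes.TypeC
open Cfsg.Agent.Nodes.Comb Cfsg.Agent.Nodes.Reps Cfsg.Agent.Nodes.WittRoot Cfsg.Agent.Nodes.BNOf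
open Cfsg.Agent.Nodes.WittRGD Cfsg.Agent.Nodes.RGDLib Cfsg.Agent.Nodes.WittAll Cfsg.Agent.Nodes
open Cfsg.Agent.TitsThree Cfsg.Agent.TitsThree.Siegel Cfsg.Agent.TitsThree.WittFrame
  Cfsg.Agent.TitsThree.WittWeyl Cfsg.Agent.TitsThree.FrameCN
open Cfsg.Agent.LieClassical.HermBasic Cfsg.Agent.LieClassical.HermSiegel Cfsg.Agent.LieClassical.HermGen
open Cfsg.Agent.TitsThree.KSideU Cfsg.Agent.TitsThree.KSideUDesc Cfsg.Agent.Nodes.WittU
  Cfsg.Agent.TitsThree.WBridge Cfsg.Agent.TitsThree.SiegelGen Cfsg.Agent.H61.SUCross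
open Cfsg.Agent.Nodes.Bruhat Cfsg.Agent.Nodes.OppDec Cfsg.Agent.Nodes.LeviDec Cfsg.Agent.KFacts.RgdOpp
  Cfsg.Agent.Omega.CR Cfsg.Agent.Omega.FOne.Lift.Sd Cfsg.Agent.H911 Cfsg.Agent.H905.Md Cfsg.Agent.H156.Ppd
open Cfsg Cfsg.Geo Cfsg.Agent.H67 Cfsg.Agent.KFacts.MulOdd.Shrink Cfsg.Agent.KFacts.MulOdd.Inst
open scoped MatrixGroups Matrix

variable {K : Type} [Field K] [Fintype K] {q N m : ℕ} {hK : Fintype.card K = q ^ 2} (hN : 3 ≤ N)
  (W : WFrame (PU hK N) m) {o : Fin m}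

/-- the torus acts on `e_o` by all scalars -/
theorem exists_tor (hm : 1 < m) (ho : (o : ℕ) = 0) {a : K} (ha : a ≠ 0) :
    ∃ t ∈ WittModel.T (modelSU hK hN W), psi W o t = a := by
  have h1 : (o : ℕ) + 1 < m := by omega
  have hne : ((o, true) : Fin m × Bool).1 ≠ (nx o).1 := H61.SUNode.ne_nx h1
  have hA : Amb (toFrame W) (IU K q N) := amb_U hK W
  have h2 := _root_.Cfsg.Agent.Nodes.WittAll.tor_of_mono (_root_.Cfsg.Agent.Nodes.WittRGD.nX_mem hA (o, true) (nx o) a) (_root_.Cfsg.Agent.Nodes.WittRGD.nX_mem hA (o, true) (nx o) 1)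
    (mono_nX (Fr := toFrame W) h1 ha) (mono_nX (Fr := toFrame W) h1 one_ne_zero)
  obtain ⟨t, ht⟩ := h2.1
  have ht1 : t ∈ WittModel.T (modelSU hK hN W) := by
    rw [T_eq, Subgroup.mem_comap, ht]
    exact h2
  refine ⟨t, ht1, ?_⟩
  have h3 : (nX (toFrame W) (o, true) (nx o) 1)⁻¹ (W.e o) = (toFrame W).b (neg (nx o)) := by
    have h4 := nX_apply_neg (toFrame W) hne (one_ne_zero (α := K))
    rw [_root_.one_smul] at h4
    change (nX (toFrame W) (o, true) (nx o) 1).symm (W.e o) = _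
    rw [LinearEquiv.symm_apply_eq, h4]
    rfl
  have h5 : act t (W.e o) = a • W.e o := by
    change toLin K q N t (W.e o) = _
    rw [ht, mul_apply', h3, nX_apply_neg (toFrame W) hne ha]
    rfl
  unfold psi
  rw [h5, herm_smul_left, herm_ef, mul_one]

theorem Lv_fix {Y k V I : Type*} [DecidableEq I] [Group Y] [Field k] [AddCommGroup V] [Module k V]
    {X : (I → ℤ) → Subgroup Y}
    {ρ : Y →* Module.End k V} {v : V} {i : I} (h1 : ∀ x ∈ X (sr i), ρ x v = v)
    (h2 : ∀ x ∈ X (-sr i), ρ x v = v) {t : Y} (ht : t ∈ Lv X i) : ρ t v = v := by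
  have h3 : Lv X i ≤ Cfsg.Agent.H353.Ker.stab ρ v := sup_le h1 h2
  exact h3 ht

section

variable {Wg : Type*} [Group Wg] {cs : CoxeterSystem (CoxeterMatrix.B m) Wg}
  {k V : Type*} [Field k] [AddCommGroup V] [Module k V] {ρ : SU N K q →* Module.End k V}

/-- **The elements of the torus with `ψ(t) = 1` fix `V^U`** -/
theorem tor_fix (hm : 1 < m) (ho : (o : ℕ) = 0) (hW : Kind W)
    (hJ : ∀ i, i ≠ o → i ∈ Jx cs (isCartan m) (WittModel.X (modelSU hK hN W)) ρ) {v : V}
    (hv : v ∈ D cs (isCartan m) (WittModel.X (modelSU hK hN W)) ρ) {t : SU N K q}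
    (ht : t ∈ WittModel.T (modelSU hK hN W)) (h1 : psi W o t = 1) : ρ t v = v := by
  haveI : Finite Wg := finite_W cs
  obtain ⟨p, hp⟩ := CharP.exists K
  haveI : Fact p.Prime := ⟨CharP.char_is_prime K p⟩
  obtain ⟨p0, hp0, -⟩ := exists_adm hK W
  have hA : AmbT (toFrame W) p (modelSU hK hN W).I := AmbT.of_amb (amb_U hK W) p
  have R := rgdC_model (modelSU hK hN W) hA hp0 cs
  have hG : G1 cs (isCartan m) (WittModel.X (modelSU hK hN W)) = ⊤ := WittModel.G1_eq_top _ (by omega) _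
  have hcomm : ∀ s ∈ WittModel.T (modelSU hK hN W), ∀ t ∈ WittModel.T (modelSU hK hN W), s * t = t * s :=
    modelT_comm hA (kd_su hW)
  set T := WittModel.T (modelSU hK hN W) with hT
  set X := WittModel.X (modelSU hK hN W) with hX
  -- `t = t₀ s`
  let S : Subgroup (SU N K q) :=
    { carrier := {t | ∃ t₀ ∈ T ⊓ Lv X o, ∃ s ∈ T, ρ s v = v ∧ act s (W.e o) = W.e o ∧ t = t₀ * s}
      one_mem' := ⟨1, one_mem _, 1, one_mem _, rho_one ρ v, act_one _, (one_mul _).symm⟩
      mul_mem' := by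
        rintro _ _ ⟨t₀, ht₀, s, hs, h1, h2, rfl⟩ ⟨t₁, ht₁, s', hs', h1', h2', rfl⟩
        refine ⟨t₀ * t₁, mul_mem ht₀ ht₁, s * s', mul_mem hs hs', by rw [rho_mul, h1', h1],
          by rw [act_mul, h2', h2], ?_⟩
        have h3 := hcomm s hs t₁ ht₁.1
        calc t₀ * s * (t₁ * s') = t₀ * (s * t₁) * s' := by group
          _ = t₀ * t₁ * (s * s') := by rw [h3]; group
      inv_mem' := by
        rintro _ ⟨t₀, ht₀, s, hs, h1, h2, rfl⟩
        refine ⟨t₀⁻¹, inv_mem ht₀, s⁻¹, inv_mem hs, ?_, ?_, ?_⟩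
        · conv_lhs => rw [← h1]
          exact rho_inv_rho ρ s v
        · conv_lhs => rw [← h2]
          exact act_inv_act s _
        · rw [mul_inv_rev]
          exact hcomm _ (inv_mem hs) _ (inv_mem ht₀.1) }
  have hTS : T ≤ S := by
    refine le_trans (torus_le R hG) (iSup_le fun i => ?_)
    intro t ht
    have ht' : t ∈ T ⊓ Lv X i := ht
    by_cases hi : i = o
    · subst hi
      exact ⟨t, ht', 1, one_mem _, rho_one ρ v, act_one _, (mul_one _).symm⟩
    · refine ⟨1, one_mem _, t, ht'.1, ?_, ?_, (one_mul _).symm⟩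
      · exact Lv_fix (fun x hx => X_fix R ρ hv i hx) (fun x hx => hJ i hi x hx v hv) ht'.2
      · have h3 := ht'.2
        rw [Lv_eq] at h3
        have hlt : o < i := by
          rw [Fin.lt_def, ho]
          have : (i : ℕ) ≠ 0 := fun h => hi (Fin.ext (h.trans ho.symm))
          omega
        exact H61.SUNode.fix_of_mem (Fr := toFrame W) hlt h3
  obtain ⟨t₀, ht₀, s, hs, h2, h3, rfl⟩ := hTS ht
  have h4 : t₀ = 1 := by
    have h5 : act (t₀ * s) (W.e o) = W.e o := by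
      have := psi_spec hN W o ht
      rw [h1, _root_.one_smul] at this
      exact this
    rw [act_mul, h3] at h5
    have h6 := ht₀.2
    rw [Lv_eq] at h6
    have h7 := ht₀.1
    rw [hT, T_eq] at h7
    have h8 := eq_one_of W hW o h6 h7.2 h5
    apply toLin_injective
    rw [h8, map_one]
  rw [h4, one_mul]
  exact h2

/-- `χ = σ(ψ) ^ c` -/
theorem exists_pow (hm : 1 < m) (ho : (o : ℕ) = 0) (hW : Kind W)
    (hJ : ∀ i, i ≠ o → i ∈ Jx cs (isCartan m) (WittModel.X (modelSU hK hN W)) ρ) {v : V} (hv0 : v ≠ 0)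
    (hv : v ∈ D cs (isCartan m) (WittModel.X (modelSU hK hN W)) ρ) {χ : SU N K q → k}
    (hχ : ∀ t ∈ WittModel.T (modelSU hK hN W), ρ t v = χ t • v) (σ : K →+* k) :
    ∃ c, 1 ≤ c ∧ c ≤ Fintype.card K - 1 ∧ ∀ t ∈ WittModel.T (modelSU hK hN W), χ t = σ (psi W o t) ^ c := by
  classical
  obtain ⟨p, hp⟩ := CharP.exists K
  haveI : Fact p.Prime := ⟨CharP.char_is_prime K p⟩
  have hA : AmbT (toFrame W) p (modelSU hK hN W).I := AmbT.of_amb (amb_U hK W) p
  have hpw : ∀ t ∈ WittModel.T (modelSU hK hN W), t ^ Fintype.card K = t :=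
    modelT_pow hA (kd_su hW) (fun a => FiniteField.pow_card a)
  have hcK : 1 < Fintype.card K := Fintype.one_lt_card
  obtain ⟨ω, hω⟩ := IsCyclic.exists_generator (α := Kˣ)
  obtain ⟨t₁, ht₁, hψ₁⟩ := exists_tor hN W hm ho ω.ne_zero
  have hord : orderOf ω = Fintype.card K - 1 := by
    rw [orderOf_eq_card_of_forall_mem_zpowers hω, Nat.card_eq_fintype_card, Fintype.card_units]
  have hpr : IsPrimitiveRoot (σ (ω : K)) (Fintype.card K - 1) := by
    have h1 : IsPrimitiveRoot ω (Fintype.card K - 1) := hord ▸ IsPrimitiveRoot.orderOf ω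
    have h2 : IsPrimitiveRoot (ω : K) (Fintype.card K - 1) := h1.map_of_injective (f := Units.coeHom K) Units.val_injective
    exact h2.map_of_injective σ.injective
  have h1 : t₁ ^ (Fintype.card K - 1) = 1 := by
    have h2 := hpw t₁ ht₁
    have h3 : Fintype.card K = (Fintype.card K - 1) + 1 := by omega
    rw [h3, pow_succ] at h2
    exact mul_eq_right.1 h2
  have hχ1 : χ t₁ ^ (Fintype.card K - 1) = 1 := by
    rw [← chi_pow hv0 hχ ht₁, h1]
    have h2 := hχ 1 (one_mem _)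
    rw [rho_one] at h2
    have h3 : (1 : k) • v = χ 1 • v := by rw [_root_.one_smul]; exact h2
    exact (smul_left_injective k hv0 h3).symm
  haveI : NeZero (Fintype.card K - 1) := ⟨by omega⟩
  obtain ⟨i, hi, hi'⟩ := hpr.eq_pow_of_pow_eq_one hχ1
  obtain ⟨c, hc1, hc2, hc⟩ : ∃ c, 1 ≤ c ∧ c ≤ Fintype.card K - 1 ∧ σ (ω : K) ^ c = χ t₁ := by
    by_cases h0 : i = 0
    · refine ⟨Fintype.card K - 1, by omega, le_rfl, ?_⟩
      rw [hpr.pow_eq_one, ← hi', h0, pow_zero]
    · exact ⟨i, by omega, by omega, hi'⟩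
  refine ⟨c, hc1, hc2, fun t ht => ?_⟩
  obtain ⟨l, hl⟩ : ∃ l : ℕ, ω ^ l = Units.mk0 (psi W o t) (psi_ne hN W o ht) := by
    have h2 := hω (Units.mk0 (psi W o t) (psi_ne hN W o ht))
    rwa [← mem_powers_iff_mem_zpowers, Submonoid.mem_powers_iff] at h2
  have hl' : psi W o t = (ω : K) ^ l := by
    have := congrArg Units.val hl
    rw [Units.val_pow_eq_pow_val, Units.val_mk0] at this
    exact this.symm
  have hψp : ∀ l : ℕ, psi W o (t₁ ^ l) = (ω : K) ^ l := by
    intro l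
    induction l with
    | zero =>
      rw [pow_zero, pow_zero]
      unfold psi
      rw [act_one, herm_ef]
    | succ l ih => rw [pow_succ, psi_mul hN W o (pow_mem ht₁ l) ht₁, ih, hψ₁, pow_succ]
  -- `t = s t₁ ^ l`
  obtain ⟨s, hs, rfl⟩ : ∃ s ∈ WittModel.T (modelSU hK hN W), t = s * t₁ ^ l :=
    ⟨t * (t₁ ^ l)⁻¹, mul_mem ht (inv_mem (pow_mem ht₁ l)), by group⟩
  have hs1 : psi W o s = 1 := by
    rw [psi_mul hN W o hs (pow_mem ht₁ l), hψp] at hl'
    exact mul_eq_right₀ (pow_ne_zero l ω.ne_zero) |>.1 hl'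
  have h2 := tor_fix hN W hm ho hW hJ hv hs hs1
  have h3 : χ (s * t₁ ^ l) = χ t₁ ^ l := by
    have h4 := hχ _ ht
    rw [rho_mul, hχ _ (pow_mem ht₁ l), map_smul, h2, chi_pow hv0 hχ ht₁] at h4
    exact (smul_left_injective k hv0 h4).symm
  rw [h3, hl', map_pow, ← hc, ← pow_mul, ← pow_mul, mul_comm]

end

/-- the exponent -/
theorem exp_form {k : Type*} [Field k] {c Q j : ℕ} (hQ : 2 ≤ Q) (hj : Q ^ j = Fintype.card K) (σ : K →+* k)
    (hc1 : 1 ≤ c) (hc2 : c ≤ Fintype.card K - 1) (hfix : ∀ a : K, a ≠ 0 → (σ a ^ c) ^ Q = σ a ^ c) :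
    ∃ c', 1 ≤ c' ∧ c' < Q ∧ c = Cfsg.Agent.H525.Ppd.rep Q c' j := by
  classical
  have hcK : 1 < Fintype.card K := Fintype.one_lt_card
  have hj0 : j ≠ 0 := by
    rintro rfl
    rw [pow_zero] at hj
    omega
  have hdvd : Fintype.card K - 1 ∣ c * (Q - 1) := by
    obtain ⟨t, ht⟩ := IsCyclic.exists_generator (α := Kˣ)
    have h1 : orderOf t = Fintype.card K - 1 := by
      rw [orderOf_eq_card_of_forall_mem_zpowers ht, Nat.card_eq_fintype_card, Fintype.card_units]
    rw [← h1]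
    apply orderOf_dvd_of_pow_eq_one
    apply Units.ext
    rw [Units.val_pow_eq_pow_val, Units.val_one]
    apply σ.injective
    rw [map_pow, map_one]
    have h3 := hfix t t.ne_zero
    rw [← pow_mul] at h3
    have h5 : c * Q = c * (Q - 1) + c := by
      rw [Nat.mul_sub, mul_one, Nat.sub_add_cancel (Nat.le_mul_of_pos_right _ (by omega))]
    rw [h5, pow_add] at h3
    exact mul_right_cancel₀ (pow_ne_zero c ((map_ne_zero σ).2 t.ne_zero)) (h3.trans (one_mul _).symm)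
  set R := ∑ i ∈ Finset.range j, Q ^ i with hR
  have hgeom : R * (Q - 1) = Fintype.card K - 1 := by
    rw [← hj, hR]
    exact geom_sum_mul_of_one_le (by omega) j
  have hRa : R ∣ c := by
    rw [← hgeom] at hdvd
    exact Nat.dvd_of_mul_dvd_mul_right (by omega) hdvd
  obtain ⟨c', hca⟩ := hRa
  have hR1 : 1 ≤ R := by
    rcases Nat.eq_zero_or_pos R with h0 | h0
    · rw [h0, zero_mul] at hca
      omega
    · exact h0
  refine ⟨c', ?_, ?_, by rw [hca, Cfsg.Agent.H525.Ppd.rep, mul_comm]⟩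
  · rcases Nat.eq_zero_or_pos c' with h0 | h0
    · rw [h0, mul_zero] at hca
      omega
    · exact h0
  · rw [hca, ← hgeom] at hc2
    have := Nat.le_of_mul_le_mul_left hc2 hR1
    omega

section

variable {Wg : Type*} [Group Wg] {cs : CoxeterSystem (CoxeterMatrix.B m) Wg} {F : Type*} [Field F] [Finite F]
  {ι : Type} [Fintype ι] [DecidableEq ι] [Nonempty ι] {P : Subgroup (GL ι F)} {φ : SU N K q →* GL ι F}

/-- **The kernel.** -/
theorem first_bound {p : ℕ} [hp : Fact p.Prime] [CharP F p] [CharP K p] (hm : 1 < m) (ho : (o : ℕ) = 0) (hW : Kind W)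
    (hφ : φ.range = P) (hP : ActsAbsolutelyIrreducibly (matrixSet P))
    (hJ : Jx cs (isCartan m) (WittModel.X (modelSU hK hN W)) (lrep φ) = {i | i ≠ o}) {j : ℕ}
    (hj : Nat.card F ^ j = Fintype.card K) (σ : K →+* AlgebraicClosure F) :
    ∃ c', 1 ≤ c' ∧ c' < Nat.card F ∧
      Module.finrank (AlgebraicClosure F) (Rw q N σ (Cfsg.Agent.H525.Ppd.rep (Nat.card F) c' j)) ≤ Fintype.card ι := by
  haveI : Finite Wg := finite_W cs
  have hcK : CharP (AlgebraicClosure F) p := charP_of_injective_algebraMap (algebraMap F _).injective p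
  obtain ⟨p0, hp0, -⟩ := exists_adm hK W
  have hA : AmbT (toFrame W) p (modelSU hK hN W).I := AmbT.of_amb (amb_U hK W) p
  have R := rgdC_model (modelSU hK hN W) hA hp0 cs
  have hm0 : 0 < m := by omega
  have hG : GG cs (isCartan m) (WittModel.T (modelSU hK hN W)) (WittModel.X (modelSU hK hN W)) = ⊤ :=
    gg_top (WittModel.G1_eq_top _ hm0 _)
  have hT : ∀ s ∈ WittModel.T (modelSU hK hN W), ∀ t ∈ WittModel.T (modelSU hK hN W), s * t = t * s :=
    modelT_comm hA (kd_su hW)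
  obtain ⟨w, hw0, hw1, hw2, χ, hχ⟩ := exists_w R hG hT hφ hP
  have hirr := ac_irr R hG hT hφ hP
  have hJ' : Jx cs (isCartan m) (WittModel.X (modelSU hK hN W)) (lin (acRep φ)) = {i | i ≠ o} := by
    rw [Jx_eq R hG hT hφ hP, hJ]
  have hwD : ac w ∈ D cs (isCartan m) (WittModel.X (modelSU hK hN W)) (lin (acRep φ)) := by
    rw [hw2]
    exact Submodule.mem_span_singleton_self _
  have hac0 : ac w ≠ 0 := fun h0 => hw0 (ac_inj (h0.trans ac_zero.symm))
  have hχ' : ∀ t ∈ WittModel.T (modelSU hK hN W), lin (acRep φ) t (ac w) =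
      (algebraMap F (AlgebraicClosure F) (χ t)) • ac w := by
    intro t ht
    rw [lin_ac, hχ t ht, ac_smul]
  obtain ⟨c, hc1, hc2, hc⟩ := exists_pow hN W hm ho hW (ρ := lin (acRep φ)) (cs := cs)
    (fun i hi => by rw [hJ']; exact hi) hac0 hwD hχ' σ
  have hQ2 : 2 ≤ Nat.card F := Finite.one_lt_card
  obtain ⟨c', h1, h2, h3⟩ := exp_form hQ2 hj σ hc1 hc2 (by
    intro a ha
    obtain ⟨t, ht, rfl⟩ := exists_tor hN W hm ho ha
    rw [← hc t ht, ← map_pow]
    congr 1
    have := Fintype.ofFinite F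
    rw [Nat.card_eq_fintype_card, FiniteField.pow_card])
  refine ⟨c', h1, h2, ?_⟩
  rw [← h3]
  have hne : Nontrivial (Fin N → K) := ⟨_, 0, e_ne_zero W o⟩
  have h4 := Cfsg.Agent.H353.Ker.le_finrank_of_pow R hirr (fun L hL => nat_irr hN W L hL hm0) hwD hac0
    (e_mem_D hN W hm ho) (e_ne_zero W o) (fdual_mem hN W hm ho) (fdual_ne W o)
    (by rw [hJ', Jx_nat hN W hm ho]) hχ' (fun t ht => psi_spec hN W o ht) σ (by omega) hc
    (fun v : Is q N K => v.1) (by
      intro v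
      obtain ⟨g, hg⟩ := exists_act hK hN (herm_ee W o) v.2.1 (e_ne_zero W o) v.2.2
      exact ⟨g, by rw [hG]; trivial, 1, one_ne_zero, by rw [_root_.one_smul]; exact hg⟩)
    (fun v : Is q N K => fdual (q := q) v.1) (by
      intro v
      obtain ⟨g, hg⟩ := exists_act hK hN (herm_ff W o) v.2.1 (f_ne_zero W o) v.2.2
      exact ⟨g, by rw [hG]; trivial, 1, one_ne_zero, by rw [_root_.one_smul, dual_fdual, hg]⟩)
  rw [Module.finrank_fintype_fun_eq_card] at h4
  exact h4

end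

end Cfsg.Agent.H69.Ppd
end

-- part: H69/Ppd/KerNum
section
/-!
# The kernel `h(x, y) ^ c`, `c = c' (1 + Q + ... + Q ^ (j - 1))`: the rank is at least `10 j` (helper69, TEAM PPD)
-/

set_option autoImplicit false
set_option linter.unusedSectionVars false

namespace Cfsg.Agent.H69.Ppd

open Cfsg Cfsg.Agent.LieClassical.HermBasic Matrix Cfsg.Agent.H929.U3.Dig Cfsg.Agent.H525.Ppd

section

variable {p : ℕ} [hp : Fact p.Prime]

theorem bx_rep {s : ℕ} (hs : 0 < s) (j k : ℕ) (hk : k < j) : bx p (rep (p ^ s) 1 j) ((p ^ s) ^ k) := by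
  have h1 : 1 < p ^ s := Nat.one_lt_pow hs.ne' hp.out.one_lt
  induction j generalizing k with
  | zero => omega
  | succ j ih =>
    rw [rep_succ]
    rcases k with _ | k
    · have := bx_add (p := p) (f := s) (a' := 1) (a'' := rep (p ^ s) 1 j) (x := 1) (y := 0) h1 h1 (bx_self 1)
        (bx_zero _)
      simpa using this
    · have := bx_add (p := p) (f := s) (a' := 1) (a'' := rep (p ^ s) 1 j) (x := 0) (y := (p ^ s) ^ k) h1
        (by omega) (bx_zero 1) (ih k (by omega))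
      rw [pow_succ']
      simpa using this

theorem pow_lt_rep {s j k : ℕ} (hs : 0 < s) (hj : 2 ≤ j) (hk : k < j) : (p ^ s) ^ k < rep (p ^ s) 1 j := by
  have h1 : 1 < p ^ s := Nat.one_lt_pow hs.ne' hp.out.one_lt
  unfold rep
  rw [one_mul]
  obtain ⟨l, hl, hlk⟩ : ∃ l, l < j ∧ l ≠ k := by
    by_cases h0 : k = 0
    · exact ⟨1, by omega, by omega⟩
    · exact ⟨0, by omega, by omega⟩
  have h2 : (p ^ s) ^ l + (p ^ s) ^ k ≤ ∑ i ∈ Finset.range j, (p ^ s) ^ i := by
    rw [← Finset.sum_pair hlk]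
    refine Finset.sum_le_sum_of_subset ?_
    intro x hx
    rw [Finset.mem_insert, Finset.mem_singleton] at hx
    rw [Finset.mem_range]
    rcases hx with rfl | rfl
    · exact hl
    · exact hk
  have h3 : 0 < (p ^ s) ^ l := pow_pos (by omega) _
  omega

end

theorem bound_two {N : ℕ} (hN : 4 ≤ N) : 10 * N + 4 ≤ 4 * 2 ^ N := by
  induction N, hN using Nat.le_induction with
  | base => norm_num
  | succ n hn ih =>
    rw [pow_succ]
    omega

section

variable {K k : Type*} [Field K] [Fintype K] [Field k] {q N : ℕ} {b : Fin 2 × Bool → Fin N → K} {d : Fin N → K}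
  {p : ℕ} [hp : Fact p.Prime] [CharP k p]

/-- twisting by the Frobenius map -/
theorem Rw_frob (σ : K →+* k) (a c : ℕ) :
    Rw q N σ (p ^ a * c) = Rw q N ((iterateFrobenius k p a).comp σ) c := by
  unfold Rw
  congr 2
  funext w v
  unfold kr
  rw [pow_mul, RingHom.comp_apply, iterateFrobenius_def]

/-- **The rank of the kernel.** -/
theorem ker_five (hK : Fintype.card K = q ^ 2) (hb : IsFr q b d) (σ : K →+* k) {s j c' : ℕ} (hs : 0 < s)
    (hQ : (p ^ s) ^ j = Fintype.card K) (hc1 : 1 ≤ c') (hc' : c' < p ^ s) (hj : 2 ≤ j) :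
    10 * j ≤ Module.finrank k (Rw q N σ (rep (p ^ s) c' j)) := by
  classical
  have hp2 := hp.out.two_le
  have h1Q : 1 < p ^ s := Nat.one_lt_pow hs.ne' hp.out.one_lt
  have hd2 : 2 ≤ dc p s c' := two_le_dc hc1 hc'
  -- the general bound
  have key : ∀ (σ : K →+* k) (c : ℕ), 1 ≤ c → c < p ^ s → ∀ M₁ ⊆ (Finset.Ioo 0 (rep (p ^ s) c j)).filter
      (fun m => bx p (rep (p ^ s) c j) m), (∀ m ∈ M₁, ∃ e, m = p ^ e) →
      4 * dc p s c ^ j + 4 * M₁.card ≤ Module.finrank k (Rw q N σ (rep (p ^ s) c j)) + 4 := by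
    intro σ c hc1 hc M₁ hM₁ hpw
    have hr1 := rep_pos (Q := p ^ s) hc1 (by omega : 1 ≤ j)
    have hr2 := rep_lt (N := j) hc
    rw [hQ] at hr2
    have h1 := rank_ge (σ := σ) (p := p) hK (by omega) hb hr2
      (M := (Finset.Ioo 0 (rep (p ^ s) c j)).filter (fun m => bx p (rep (p ^ s) c j) m)) (M₁ := M₁) (by
        intro m hm
        rw [Finset.mem_filter, Finset.mem_Ioo] at hm
        refine ⟨hm.1.1, hm.1.2, ?_⟩
        rw [Ne, CharP.cast_eq_zero_iff k p]
        exact hm.2) hM₁ hpw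
    have h2 : dc p s c ^ j = ((Finset.Ioo 0 (rep (p ^ s) c j)).filter
        (fun m => bx p (rep (p ^ s) c j) m)).card + 2 := by
      rw [← dc_rep hc j]
      unfold dc
      rw [← Finset.card_pair (show (0 : ℕ) ≠ rep (p ^ s) c j by omega), ← Finset.card_union_of_disjoint]
      · congr 1
        ext m
        simp only [Finset.mem_filter, Finset.mem_range, Finset.mem_union, Finset.mem_Ioo, Finset.mem_insert,
          Finset.mem_singleton]
        rw [mul_comm j s, pow_mul, hQ]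
        constructor
        · rintro ⟨h3, h4⟩
          have h5 := bx_le h4
          by_cases h6 : m = 0
          · exact Or.inr (Or.inl h6)
          by_cases h7 : m = rep (p ^ s) c j
          · exact Or.inr (Or.inr h7)
          · exact Or.inl ⟨⟨by omega, by omega⟩, h4⟩
        · rintro (⟨h3, h4⟩ | h3 | h3)
          · exact ⟨by omega, h4⟩
          · rw [h3]
            exact ⟨by omega, bx_zero _⟩
          · rw [h3]
            exact ⟨hr2, bx_self _⟩
      · rw [Finset.disjoint_left]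
        intro m hm hm'
        rw [Finset.mem_filter, Finset.mem_Ioo] at hm
        rw [Finset.mem_insert, Finset.mem_singleton] at hm'
        omega
    omega
  have h2j : 2 ^ j ≤ dc p s c' ^ j := Nat.pow_le_pow_left hd2 j
  by_cases hj4 : 4 ≤ j
  · have h1 := key σ c' hc1 hc' ∅ (Finset.empty_subset _) (by simp)
    rw [Finset.card_empty] at h1
    have h2 := bound_two hj4
    omega
  by_cases hd3 : 3 ≤ dc p s c'
  · have h1 := key σ c' hc1 hc' ∅ (Finset.empty_subset _) (by simp)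
    rw [Finset.card_empty] at h1
    have h3j : 3 ^ j ≤ dc p s c' ^ j := Nat.pow_le_pow_left hd3 j
    have h4 : j = 2 ∨ j = 3 := by omega
    rcases h4 with rfl | rfl <;> omega
  -- `c'` is a power of `p`
  obtain ⟨a, c₁, hck, hc₁⟩ := classify hc1 hc' (by omega)
  obtain rfl : c₁ = 1 := by
    rcases hc₁ with h5 | ⟨i, -, -, h5⟩ <;> omega
  rw [mul_one] at hck
  have e1 : rep (p ^ s) c' j = p ^ a * rep (p ^ s) 1 j := by
    unfold rep
    rw [hck, one_mul]
  rw [e1, Rw_frob]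
  have hdc : dc p s 1 = 2 := dc_lt hp.out.one_lt hs
  have h1 := key ((iterateFrobenius k p a).comp σ) 1 le_rfl h1Q ((Finset.range j).image fun i => (p ^ s) ^ i) (by
    intro m hm
    rw [Finset.mem_image] at hm
    obtain ⟨i, hi, rfl⟩ := hm
    rw [Finset.mem_range] at hi
    rw [Finset.mem_filter, Finset.mem_Ioo]
    exact ⟨⟨pow_pos (by omega) _, pow_lt_rep hs hj hi⟩, bx_rep hs j i hi⟩) (by
    intro m hm
    rw [Finset.mem_image] at hm
    obtain ⟨i, hi, rfl⟩ := hm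
    exact ⟨s * i, (pow_mul _ _ _).symm⟩)
  rw [Finset.card_image_of_injective _ (Nat.pow_right_injective h1Q), Finset.card_range, hdc] at h1
  have h4 : j = 2 ∨ j = 3 := by omega
  rcases h4 with rfl | rfl <;> omega

end

end Cfsg.Agent.H69.Ppd
end

-- part: H69/Ppd/LeviAbs
section
/-!
# The rank one subgroup of a node acts absolutely irreducibly on `k[L_i] V^U` (helper69, TEAM PPD)

`R : RGD cs h p T n X`, `ρ` simple over `k`, `V^U = ⟨w⟩`, `Lv X i = ⟨X_i, X_{-i}⟩`, `Le {i} = k[L_i] V^U`.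

* `mem_D_of` : a vector of `Le {i}` fixed by `X_i` is in `V^U`;
* `lv_simple` : `Le {i}` is a simple `Lv X i`-module;
* **`exists_levi`** : the matrices of `Lv X i` on `Le {i}` act absolutely irreducibly.
-/

set_option autoImplicit false
set_option linter.unusedSectionVars false

namespace Cfsg.Agent.H69.Ppd

open CoxeterSystem Cfsg.Agent.ChevalleyStructure.CoxeterGeom Cfsg.Agent.Tits.Roots Cfsg.Agent.Tits.Core
  Cfsg.Agent.Tits.Exchange Cfsg.Agent.Nodes.Reps Cfsg.Agent.Nodes.BNOf Cfsg.Agent.Nodes.StabComb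
  Cfsg.Agent.Nodes.Bruhat Cfsg.Agent.Nodes.OppDec Cfsg.Agent.Nodes.LeviDec Cfsg.Agent.KFacts.RgdOpp
  Cfsg.Agent.Omega.CR Cfsg.Agent.Omega.FOne.Lift.Sd Cfsg.Agent.H905.Md Cfsg.Agent.KFacts.MulOdd.Inst
open Cfsg Cfsg.Geo
open scoped MatrixGroups Matrix

variable {I W Y : Type*} [Fintype I] [DecidableEq I] [Group W] [Group Y] {M : CoxeterMatrix I}
  {cs : CoxeterSystem M W} {A : I → I → ℤ} {h : IsCartan M A} {p : ℕ} {T : Subgroup Y} {n : I → Y}
  {X : (I → ℤ) → Subgroup Y} {k V : Type*} [Field k] [AddCommGroup V] [Module k V]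
  (R : RGD cs h p T n X) [Finite Y] [Finite W] [Fact p.Prime] [CharP k p]
  {ρ : Y →* Module.End k V} [FiniteDimensional k V] [Nontrivial V]
  (hirr : ∀ L : Submodule k V, Ivt ρ (GG cs h T X) L → L = ⊥ ∨ L = ⊤)

include R

theorem mem_D_of (i : I) {v : V} (hv : v ∈ Le cs h T X ρ {i}) (hf : ∀ x ∈ X (sr i), ρ x v = v) :
    v ∈ D cs h X ρ := by
  intro g hg
  obtain ⟨u, hu, x, hx, rfl⟩ := (mem_U_iff R (J := {i})).1 hg
  have h1 : UJ cs h X {i} ≤ X (sr i) := by
    refine RGD.Sup_le fun y hy => ?_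
    rcases mem_RootsJ_single (PosJ_subset _ hy) with rfl | rfl
    · exact le_rfl
    · exfalso
      have h2 := hy.2.1 i
      rw [Pi.neg_apply, sr_self, Pi.zero_apply] at h2
      exact absurd h2 (by norm_num)
  rw [rho_mul, Le_le_fx R _ hv x hx]
  exact hf u (h1 hu)

include hirr

/-- **`Le {i}` is a simple `Lv X i`-module** -/
theorem lv_simple {w : V} (hD : D cs h X ρ = Submodule.span k {w}) (i : I) {L : Submodule k V}
    (hL : L ≤ Le cs h T X ρ {i}) (hinv : Ivt ρ (Lv X i) L) (hL0 : L ≠ ⊥) : Le cs h T X ρ {i} ≤ L := by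
  obtain ⟨v, hv, hv0, hvf⟩ := exists_fixed ρ (R.pgrp i) L (fun a ha v hv => hinv a (le_sup_left (a := X (sr i)) ha) v hv) hL0
  have h1 := mem_D_of R i (hL hv) hvf
  have h2 : D cs h X ρ ≤ L := by
    rw [hD] at h1 ⊢
    obtain ⟨a, rfl⟩ := Submodule.mem_span_singleton.1 h1
    have ha : a ≠ 0 := by
      rintro rfl
      exact hv0 (zero_smul _ _)
    rw [Submodule.span_singleton_le_iff_mem]
    have := L.smul_mem a⁻¹ hv
    rwa [smul_smul, inv_mul_cancel₀ ha, one_smul] at this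
  rw [Le_single R hirr]
  exact Sp_le h2 fun g hg v hv => hinv g (le_sup_right (b := X (-sr i)) hg) v hv

omit hirr in
theorem Lv_Le (i : I) {g : Y} (hg : g ∈ Lv X i) {v : V} (hv : v ∈ Le cs h T X ρ {i}) : ρ g v ∈ Le cs h T X ρ {i} :=
  Ivt_Le R {i} g ((sup_le (X_le_LJ (sr_mem_Roots i)) (X_le_LJ (RootsJ.neg (sr_mem_Roots i))) :
    Lv X i ≤ LJ cs h T X {i}) hg) v hv

/-- **The matrices of `Lv X i` on `Le {i}` act absolutely irreducibly** -/
theorem exists_levi {w : V} (hw0 : w ≠ 0) (hD : D cs h X ρ = Submodule.span k {w}) (i : I) :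
    ∃ φ : Lv X i →* GL (Fin (Module.finrank k (Le cs h T X ρ {i}))) k,
      ActsAbsolutelyIrreducibly (matrixSet φ.range) := by
  classical
  set U := Le cs h T X ρ {i} with hU
  let b : Module.Basis (Fin (Module.finrank k U)) k U := Module.finBasis k U
  let rs : Lv X i → Module.End k U := fun g => (ρ g).restrict fun v hv => Lv_Le R i g.2 hv
  have hrs : ∀ (g : Lv X i) (u : U), ((rs g u : U) : V) = ρ g u := fun g u => rfl
  let m : Lv X i →* Matrix (Fin (Module.finrank k U)) (Fin (Module.finrank k U)) k :=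
    { toFun := fun g => LinearMap.toMatrix b b (rs g)
      map_one' := by
        have h1 : rs 1 = LinearMap.id := by
          refine LinearMap.ext fun u => Subtype.ext ?_
          rw [hrs]
          exact rho_one ρ _
        rw [h1, LinearMap.toMatrix_id]
      map_mul' := by
        intro g g'
        have h1 : rs (g * g') = rs g ∘ₗ rs g' := by
          refine LinearMap.ext fun u => Subtype.ext ?_
          rw [hrs, LinearMap.comp_apply, hrs, hrs]
          exact rho_mul ρ _ _ _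
        rw [h1, LinearMap.toMatrix_comp b b b] }
  let φ : Lv X i →* GL (Fin (Module.finrank k U)) k := m.toHomUnits
  have hφ : ∀ g, ((φ g : GL _ k) : Matrix _ _ k) = LinearMap.toMatrix b b (rs g) := fun g => rfl
  have hmv : ∀ (g : Lv X i) (u : U), (LinearMap.toMatrix b b (rs g)) *ᵥ (b.equivFun u) = b.equivFun (rs g u) :=
    fun g u => LinearMap.toMatrix_mulVec_repr b b (rs g) u
  -- invariant subspaces
  have key : ∀ L : Submodule k U, (∀ g : Lv X i, ∀ u ∈ L, rs g u ∈ L) → L ≠ ⊥ → L = ⊤ := by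
    intro L hL hL0
    have h1 : U ≤ L.map U.subtype := by
      refine lv_simple R hirr hD i ?_ ?_ ?_
      · rintro _ ⟨u, -, rfl⟩
        exact u.2
      · rintro g hg _ ⟨u, hu, rfl⟩
        exact ⟨rs ⟨g, hg⟩ u, hL ⟨g, hg⟩ u hu, rfl⟩
      · intro h2
        apply hL0
        rw [eq_bot_iff]
        intro u hu
        have h3 : (u : V) ∈ L.map U.subtype := ⟨u, hu, rfl⟩
        rw [h2, Submodule.mem_bot] at h3
        exact Submodule.mem_bot _ |>.2 (Subtype.ext h3)
    rw [eq_top_iff]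
    intro u _
    obtain ⟨u', hu', e⟩ := h1 u.2
    have e' : u' = u := Subtype.ext e
    exact e' ▸ hu'
  refine ⟨φ, ?_, ?_⟩
  · intro L hL
    by_cases hL0 : L = ⊥
    · exact Or.inl hL0
    right
    have h1 := key (L.comap (b.equivFun : U →ₗ[k] _)) (by
      intro g u hu
      have h2 := hL _ ⟨φ g, ⟨g, rfl⟩, rfl⟩ ⟨b.equivFun u, hu, rfl⟩
      rw [Matrix.toLin'_apply] at h2
      change b.equivFun (rs g u) ∈ L
      rw [← hmv]
      exact h2) (by
      intro h2
      apply hL0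
      rw [eq_bot_iff]
      intro v hv
      have h3 : b.equivFun.symm v ∈ L.comap (b.equivFun : U →ₗ[k] _) := by
        change b.equivFun (b.equivFun.symm v) ∈ L
        rwa [LinearEquiv.apply_symm_apply]
      rw [h2, Submodule.mem_bot] at h3
      rw [Submodule.mem_bot]
      exact b.equivFun.symm.map_eq_zero_iff.1 h3)
    rw [eq_top_iff]
    intro v _
    have h3 : b.equivFun.symm v ∈ L.comap (b.equivFun : U →ₗ[k] _) := by rw [h1]; trivial
    have h4 : b.equivFun (b.equivFun.symm v) ∈ L := h3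
    rwa [LinearEquiv.apply_symm_apply] at h4
  · intro N hN
    -- the endomorphism
    let f : U →ₗ[k] U := Matrix.toLin b b N
    have hf : ∀ (g : Lv X i) (u : U), f (rs g u) = rs g (f u) := by
      intro g u
      have h1 := hN _ ⟨φ g, ⟨g, rfl⟩, rfl⟩
      have h2 := congrArg (Matrix.toLin b b) h1
      rw [Matrix.toLin_mul b b b, Matrix.toLin_mul b b b] at h2
      have h3 : Matrix.toLin b b ((φ g : GL _ k) : Matrix _ _ k) = rs g := by
        rw [hφ, Matrix.toLin_toMatrix]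
      have h4 := LinearMap.congr_fun h2 u
      rw [LinearMap.comp_apply, LinearMap.comp_apply] at h4
      simp only [h3] at h4
      exact h4
    have hwU : w ∈ U := by
      have h1 : D cs h X ρ ≤ U := D_le_Le R {i}
      apply h1
      rw [hD]
      exact Submodule.mem_span_singleton_self w
    have hwD : w ∈ D cs h X ρ := by rw [hD]; exact Submodule.mem_span_singleton_self w
    have h1 : ((f ⟨w, hwU⟩ : U) : V) ∈ D cs h X ρ := by
      refine mem_D_of R i (f ⟨w, hwU⟩).2 ?_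
      intro x hx
      have h2 := hf ⟨x, le_sup_left (a := X (sr i)) hx⟩ ⟨w, hwU⟩
      have h3 : rs ⟨x, le_sup_left (a := X (sr i)) hx⟩ ⟨w, hwU⟩ = ⟨w, hwU⟩ :=
        Subtype.ext (X_fix R ρ hwD i hx)
      rw [h3] at h2
      exact (congrArg Subtype.val h2).symm
    rw [hD] at h1
    obtain ⟨c, hc⟩ := Submodule.mem_span_singleton.1 h1
    refine ⟨c, ?_⟩
    have h2 := key (LinearMap.ker (f - c • LinearMap.id)) (by
      intro g u hu
      rw [LinearMap.mem_ker, LinearMap.sub_apply, LinearMap.smul_apply, LinearMap.id_apply] at hu ⊢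
      rw [hf, sub_eq_zero.1 hu, map_smul, sub_self]) (by
      intro h3
      have h4 : (⟨w, hwU⟩ : U) ∈ LinearMap.ker (f - c • LinearMap.id) := by
        rw [LinearMap.mem_ker, LinearMap.sub_apply, LinearMap.smul_apply, LinearMap.id_apply, sub_eq_zero]
        exact Subtype.ext hc.symm
      rw [h3, Submodule.mem_bot] at h4
      exact hw0 (congrArg Subtype.val h4))
    have h3 : f = c • LinearMap.id := by
      refine LinearMap.ext fun u => ?_
      have h4 : u ∈ LinearMap.ker (f - c • LinearMap.id) := by rw [h2]; trivial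
      rw [LinearMap.mem_ker, LinearMap.sub_apply] at h4
      exact sub_eq_zero.1 h4
    have h4 : LinearMap.toMatrix b b f = N := LinearMap.toMatrix_toLin b b N
    rw [← h4, h3, map_smul, LinearMap.toMatrix_id]

end Cfsg.Agent.H69.Ppd
end

-- part: H69/Ppd/B2Dim
section
/-!
# Simple modules for a root group datum of type `B_2` (helper69, TEAM PPD)

* **`dim_b2`** : if the last node `1` is not in `J` then `4 dim V^U + 4 dim (interior of the edge 1) ≤ dim V`;
* **`le_b2`** : `4 dim Le {1} ≤ dim V + 4` if `dim V^U = 1`.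
-/

set_option autoImplicit false
set_option linter.unusedSectionVars false

namespace Cfsg.Agent.H69.Ppd

open CoxeterSystem Cfsg.Agent.ChevalleyStructure.CoxeterGeom Cfsg.Agent.Tits.Roots Cfsg.Agent.Tits.Core
  Cfsg.Agent.Tits.Exchange Cfsg.Agent.Nodes.Reps Cfsg.Agent.Nodes.BNOf Cfsg.Agent.Nodes.StabComb
  Cfsg.Agent.Nodes.Bruhat Cfsg.Agent.Nodes.OppDec Cfsg.Agent.Nodes.LeviDec Cfsg.Agent.KFacts.RgdOpp
  Cfsg.Agent.Omega.CR Cfsg.Agent.Omega.FOne.Lift.Sd Cfsg.Agent.H905.Md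
open Cfsg.Agent.Nodes.TypeC (isCartan A_apply A)

variable {Wg : Type*} [Group Wg] (cs : CoxeterSystem (CoxeterMatrix.B 2) Wg)

theorem refl_zero (a b : ℤ) : Cfsg.Agent.ChevalleyStructure.CoxeterGeom.refl (A 2) 0 ![a, b] = ![2 * b - a, b] := by
  rw [refl_apply]
  funext k
  fin_cases k
  · simp only [pairing, A_apply, _root_.Fin.isValue, _root_.Fin.coe_ofNat_eq_mod, _root_.Nat.zero_mod, _root_.zero_add, _root_.Order.lt_two_iff, _root_.add_le_iff_nonpos_left, _root_.nonpos_iff_eq_zero, _root_.Fin.val_eq_zero_iff, _root_.Int.reduceNeg, _root_.Nat.add_eq_zero_iff, _root_.one_ne_zero, _root_.and_false, ↓ _root_.reduceIte, _root_.ite_mul, _root_.neg_mul, _root_.one_mul, _root_.MulZeroClass.zero_mul, _root_.Fin.sum_univ_two, _root_.Matrix.cons_val_zero, _root_.zero_ne_one, _root_.Nat.mod_succ, _root_.Matrix.cons_val_one, _root_.Matrix.cons_val_fin_one, _root_.Fin.zero_eta, _root_.Pi.sub_apply, _root_.Pi.single_eq_same, _root_.Nat.succ_eq_add_one,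 _root_.Nat.reduceAdd]
    ring
  · simp

theorem refl_one (a b : ℤ) : Cfsg.Agent.ChevalleyStructure.CoxeterGeom.refl (A 2) 1 ![a, b] = ![a, a - b] := by
  rw [refl_apply]
  funext k
  fin_cases k
  · simp
  · simp only [pairing, A_apply, _root_.Fin.isValue, _root_.Fin.coe_ofNat_eq_mod, _root_.Nat.mod_succ, _root_.Nat.reduceAdd, _root_.Order.lt_two_iff, _root_.add_le_iff_nonpos_left, _root_.nonpos_iff_eq_zero, _root_.Fin.val_eq_zero_iff, _root_.Int.reduceNeg, _root_.Nat.add_eq_right, _root_.ite_mul, _root_.neg_mul, _root_.one_mul, _root_.MulZeroClass.zero_mul, _root_.Fin.sum_univ_two, _root_.one_ne_zero, ↓ _root_.reduceIte, _root_.Nat.zero_mod, _root_.OfNat.ofNat_ne_zero, _root_.Matrix.cons_val_zero, _root_.Matrix.cons_val_one, _root_.Matrix.cons_val_fin_one, _root_.Fin.mk_one, _root_.Pi.sub_apply, _root_.Pi.single_eq_same, _root_.Nat.succ_eq_add_one]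
    ring

theorem sr_one : (sr (1 : Fin 2) : Fin 2 → ℤ) = ![0, 1] := by
  funext k
  fin_cases k <;> rfl

/-- representatives of `W / W_0` -/
def vv : Fin 4 → Wg := ![1, cs.simple 1, cs.simple 0 * cs.simple 1, cs.simple 1 * (cs.simple 0 * cs.simple 1)]

/-- representatives of the edges of type `1` -/
def ww : Fin 4 → Wg := ![1, cs.simple 0, cs.simple 1 * cs.simple 0, cs.simple 0 * (cs.simple 1 * cs.simple 0)]

variable {cs}

theorem vv_not {J : Set (Fin 2)} (hJ : 1 ∉ J) (a a' : Fin 4) (haa : a ≠ a') : (vv cs a)⁻¹ * vv cs a' ∉ WJ cs J := by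
  intro hw
  have h1 := coord_of_mem_WJ (h := isCartan 2) hw ![1, 3] hJ
  fin_cases a <;> fin_cases a' <;>
    first
    | exact haa rfl
    | simp [vv, rep_mul_apply, refl_zero, refl_one, mul_inv_rev] at h1

theorem ww_not {J : Set (Fin 2)} (hJ : 1 ∉ J) (a a' : Fin 4) (haa : a ≠ a') :
    ¬ SameEdge cs (isCartan 2) J (ww cs a) 1 (ww cs a') 1 := by
  rintro (⟨h1, h2⟩ | ⟨h1, h2⟩)
  · have h3 := coord_of_mem_WJ (h := isCartan 2) h2 ![1, 0] hJ
    rw [sr_one] at h1
    have h4 := congrFun h1 0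
    fin_cases a <;> fin_cases a' <;>
      first
      | exact haa rfl
      | simp [ww, rep_mul_apply, refl_zero, refl_one, mul_inv_rev] at h3 h4
  · rw [sr_one] at h1
    have h4 := congrFun h1 1
    fin_cases a <;> fin_cases a' <;>
      first
      | exact haa rfl
      | simp only [ww, rep_mul_apply, refl_zero, refl_one, mul_inv_rev, _root_.Fin.isValue, _root_.Fin.zero_eta, _root_.Matrix.cons_val_zero, _root_.map_one, _root_.Nat.succ_eq_add_one, _root_.Nat.reduceAdd, _root_.Module.End.one_apply, _root_.Matrix.cons_val_one, _root_.Matrix.cons_val_fin_one, _root_.Fin.mk_one, _root_.Cfsg.Agent.ChevalleyStructure.CoxeterGeom.rep_simple, _root_.mul_one, _root_.sub_zero, _root_.Pi.neg_apply, _root_.Int.reduceNeg, _root_.reduceCtorEq, _root_.Fin.reduceFinMk, _root_.Matrix.cons_val, _root_.map_mul, _root_.Module.End.mul_apply, _root_.Int.reduceSub, _root_.sub_self] at h4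

variable {Y : Type*} [Group Y] {p : ℕ} {T : Subgroup Y} {n : Fin 2 → Y}
  {X : (Fin 2 → ℤ) → Subgroup Y} {k V : Type*} [Field k] [AddCommGroup V] [Module k V]
  (R : RGD cs (isCartan 2) p T n X) [Finite Y] [Finite Wg] [Fact p.Prime] [CharP k p]
  {ρ : Y →* Module.End k V} [FiniteDimensional k V] [Nontrivial V]
  (hirr : ∀ L : Submodule k V, Ivt ρ (GG cs (isCartan 2) T X) L → L = ⊥ ∨ L = ⊤)
include R hirr

/-- **The vertices and the edges of type `1`.** -/
theorem dim_b2 (h1 : 1 ∉ Jx cs (isCartan 2) X ρ) : 4 * Module.finrank k (D cs (isCartan 2) X ρ) +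
    4 * Module.finrank k (Io cs (isCartan 2) T X ρ 1) ≤ Module.finrank k V := by
  have h2 := dim_ge R hirr (vv cs) (vv_not h1) (ww cs) (fun _ => 1) (ww_not h1)
  simpa only [_root_.Fin.isValue, _root_.ge_iff_le, _root_.Fintype.card_fin, _root_.Finset.sum_const, _root_.Finset.card_univ, _root_.smul_eq_mul] using h2

/-- the last node is not in `J` -/
theorem le_b2 (h1 : 1 ∉ Jx cs (isCartan 2) X ρ) (hD : Module.finrank k (D cs (isCartan 2) X ρ) = 1) :
    4 * Module.finrank k (Le cs (isCartan 2) T X ρ {1}) ≤ Module.finrank k V + 4 := by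
  have h2 := dim_b2 R hirr h1
  have h3 := finrank_Io R hirr (1 : Fin 2)
  omega

end Cfsg.Agent.H69.Ppd
end

private theorem dce_5b34660c826e : _root_.True := by
  try have : _root_.True := by simp only [_root_.Cfsg.Agent.H69.Ppd.ww.eq_1]
  try have : _root_.True := by simp only [_root_.Cfsg.Agent.H525.Ppd.row3.eq_1]
  try have : _root_.True := by simp only [_root_.Cfsg.Agent.H525.Ppd.row1.eq_1]
  try have : _root_.True := by simp only [_root_.Cfsg.Agent.H69.Ppd.op.eq_1]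
  try have : _root_.True := by simp only [_root_.Cfsg.Agent.H525.Ppd.rep.eq_1]
  try have : _root_.True := by simp only [_root_.Cfsg.Agent.H525.Ppd.sg3.eq_1]
  try have : _root_.True := by simp only [_root_.Cfsg.Agent.H69.Ppd.vv.eq_1]
  try have : _root_.True := by simp only [_root_.Cfsg.Agent.H525.Ppd.col3.eq_1]
  try have : _root_.True := by simp only [_root_.Cfsg.Agent.H525.Ppd.ex3.eq_1]
  try have : _root_.True := by simp only [_root_.Cfsg.Agent.H525.Ppd.col1.eq_1]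
  exact _root_.True.intro
end

-- part: H69/Ppd/Psu6Aux
section
prune_inst 0x212040002140000000000580110020246c00049000208000e80008400a01c10089020100060010020026328010000008110000100200000000003000000200208000020010000000040081000080000000000000000000000000000000000004000000000
set_option linter.all false
open scoped Cfsg.Agent.FastGrp

-- part: H525/Ppd/UMain
section
/-!
# TEAM PPD (S5948): `PSU(3, q₀)` in the defining characteristic (helper525)

* **`su3_bound`** : an absolutely irreducible representation of `SU(3, q₀)` of degree at least two over `F`,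
  `|F| ^ N = q₀ ^ 2`, `N ≥ 2`, has degree at least `6`, and at least `6 N` if `N ≥ 3`;
* `core_bound` : the same for a core of type `PSU(3, q₀)`;
* **`not_psu3`** : the row.
-/

set_option autoImplicit false
set_option linter.unusedSectionVars false
set_option linter.style.haveILetI false

namespace Cfsg.Agent.H525.Ppd

open Cfsg Cfsg.Geo Cfsg.Agent.LieClassical.HermSiegel Cfsg.Agent.LieClassical.HermBasic Matrix Cfsg.Agent.H906
  Cfsg.Agent.H915.LD Cfsg.Agent.H905.Md Cfsg.Agent.H929.U3 Cfsg.Agent.H100.Ppd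

universe u

/-- the order of the field of the frame -/
theorem exists_exp {E : Type*} [Field E] [Fintype E] {p : ℕ} [hp : Fact p.Prime] [CharP E p] {q : ℕ}
    (hE : Fintype.card E = q ^ 2) : ∃ f, q = p ^ f := by
  obtain ⟨m, -, hm⟩ := FiniteField.card E p
  rw [hE] at hm
  exact (Nat.dvd_prime_pow hp.out).1 (hm ▸ Dvd.intro_left q (by ring) : q ∣ p ^ (m : ℕ)) |>.imp fun k hk => hk.2

section

variable {F : Type u} [Field F] [Finite F] {ι : Type} [Fintype ι] [DecidableEq ι]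
  (p : ℕ) [hp : Fact p.Prime] [hFp : CharP F p] {E : Type} [Field E] [Fintype E] [hEp : CharP E p]

include p hp hFp hEp in
/-- **absolutely irreducible representations of `SU(3, q)`** -/
theorem su3_bound {q : ℕ} (hE : Fintype.card E = q ^ 2) (ρ : SU 3 E q →* GL ι F)
    (hM : Submodule.span (AlgebraicClosure F) (Set.range (acRep ρ)) = ⊤) (h2 : 2 ≤ Fintype.card ι) {N : ℕ}
    (hN : Nat.card F ^ N = q ^ 2) (hN2 : 2 ≤ N) :
    6 ≤ Fintype.card ι ∧ (3 ≤ N → 6 * N ≤ Fintype.card ι) := by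
  classical
  have hp2 := hp.out.two_le
  have : Fintype F := Fintype.ofFinite F
  have hq2 := two_le hE
  obtain ⟨f, hq⟩ := exists_exp (p := p) hE
  obtain ⟨s, -, hs⟩ := FiniteField.card F p
  have hs0 : 0 < (s : ℕ) := s.pos
  have hcF : Nat.card F = p ^ (s : ℕ) := by rw [Nat.card_eq_fintype_card, hs]
  have hQ2 : 2 ≤ p ^ (s : ℕ) := by
    have : p ^ 1 ≤ p ^ (s : ℕ) := Nat.pow_le_pow_right hp.out.pos hs0
    rw [pow_one] at this
    omega
  rw [hcF] at hN
  by_cases hn : Fintype.card ι < q ^ 3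
  swap
  · push Not at hn
    have h3 : 2 ^ 3 ≤ q ^ 3 := Nat.pow_le_pow_left hq2 3
    refine ⟨by omega, fun hN3 => ?_⟩
    have h4 : 2 ^ N ≤ q ^ 2 := by
      rw [← hN]
      exact Nat.pow_le_pow_left hQ2 N
    have h5 : 2 ^ 3 ≤ 2 ^ N := Nat.pow_le_pow_right (by norm_num) hN3
    have h6 : 3 ≤ q := by
      by_contra hcon
      have h7 : q ^ 2 ≤ 2 ^ 2 := Nat.pow_le_pow_left (by omega) 2
      omega
    have h7 : 3 * q ^ 2 ≤ q ^ 3 := by
      rw [pow_succ q 2, mul_comm]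
      exact Nat.mul_le_mul_left _ h6
    by_cases hN4 : 4 ≤ N
    · have := pow_bound hN4
      omega
    · obtain rfl : N = 3 := by omega
      omega
  have hchar : CharP (AlgebraicClosure F) p := charP_of_injective_algebraMap (algebraMap F _).injective p
  obtain ⟨j⟩ := exists_embed E (AlgebraicClosure F) p
  obtain ⟨e₀, he, he0⟩ : ∃ e : Fin 3 → E, hermForm 3 E q e e = 0 ∧ e ≠ 0 := by
    obtain ⟨t, ht⟩ := _root_.Cfsg.Agent.LieClassical.HermBasic.exists_norm_eq hE (c := (-1 : E)) (by rw [neg_pow_q hE, one_pow])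
    refine ⟨![1, t, 0], ?_, fun h0 => by simpa using congrFun h0 0⟩
    rw [herm_def, Fin.sum_univ_three]
    simp [zero_pow_q hE, ht]
  obtain ⟨a, ha1, ha2, ψ, v, hψ, hv0, hv, hc⟩ := exists_model (j := j) hE he he0 hM p hn h2
  obtain ⟨Φ, V, hK⟩ := exists_ker hE he he0 hM hψ hv0 hv hc
  -- the exponent is fixed by the Frobenius map of `F`
  obtain ⟨σ, hσ⟩ := exists_frob F p s
  have hfix : ∀ g, (acRep ρ g).map σ = acRep ρ g := by
    intro g
    ext x y
    rw [acRep_apply, Matrix.map_apply, Matrix.map_apply, hσ, ← map_pow, ← hs, FiniteField.pow_card]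
  have hfa := exp_fixed hE he he0 hM p hn (by omega) hψ hv0 hv hc σ (pow_ne_zero _ hp.out.ne_zero) hσ hfix
  set Q := p ^ (s : ℕ) with hQ
  have hdvd : q ^ 2 - 1 ∣ a * (Q - 1) := by
    obtain ⟨t, ht⟩ := IsCyclic.exists_generator (α := Eˣ)
    have h1 : orderOf t = q ^ 2 - 1 := by
      rw [orderOf_eq_card_of_forall_mem_zpowers ht, Nat.card_eq_fintype_card, Fintype.card_units, hE]
    rw [← h1]
    apply orderOf_dvd_of_pow_eq_one
    apply Units.ext
    rw [Units.val_pow_eq_pow_val, Units.val_one]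
    have h3 := hfa (t : E)
    have h5 : a * Q = a * (Q - 1) + a := by
      rw [Nat.mul_sub, mul_one, Nat.sub_add_cancel (Nat.le_mul_of_pos_right _ (by omega))]
    rw [h5, pow_add] at h3
    exact mul_right_cancel₀ (pow_ne_zero a t.ne_zero) (h3.trans (one_mul _).symm)
  set R := ∑ i ∈ Finset.range N, Q ^ i with hR
  have hgeom : R * (Q - 1) = q ^ 2 - 1 := by
    rw [← hN, hR]
    exact geom_sum_mul_of_one_le (by omega) N
  have hRa : R ∣ a := by
    rw [← hgeom] at hdvd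
    exact Nat.dvd_of_mul_dvd_mul_right (by omega) hdvd
  obtain ⟨c, hca⟩ := hRa
  have hR1 : 1 ≤ R := by
    rcases Nat.eq_zero_or_pos R with h0 | h0
    · rw [h0, zero_mul] at hca
      omega
    · exact h0
  have hc1 : 1 ≤ c := by
    rcases Nat.eq_zero_or_pos c with h0 | h0
    · rw [h0, mul_zero] at hca
      omega
    · exact h0
  have hcQ : c < Q := by
    rw [hca, ← hgeom] at ha2
    have := Nat.le_of_mul_le_mul_left ha2 hR1
    omega
  have hNs : N * s = f + f := by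
    have h3 : p ^ (s * N : ℕ) = p ^ (f * 2) := by rw [pow_mul, pow_mul, ← hq, ← hN]
    have h4 := Nat.pow_right_injective hp2 h3
    rw [mul_comm N]
    omega
  have hrep : a = rep Q c N := by rw [hca, rep, mul_comm]
  rw [hrep] at hK
  exact ker_bound (p := p) hE hq hNs hc1 hcQ hK hN2

variable {P : Subgroup (GL ι F)}

include p hp hFp hEp in
/-- **cores of type `PSU(3, q)`** -/
theorem core_bound {q : ℕ} (hC : Core P) (hq3 : 3 ≤ q) (hE : Fintype.card E = q ^ 2) (e : Soc P ≃* PSU 3 E q) :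
    ∃ N, 1 ≤ N ∧ Nat.card F ^ N = q ^ 2 ∧ (3 ≤ N → 6 * N ≤ Fintype.card ι) := by
  classical
  have hne := hC.nonempty
  have hp2 := hp.out.two_le
  have : Fintype F := Fintype.ofFinite F
  obtain ⟨f, hq⟩ := exists_exp (p := p) hE
  have hcj := core_psu_cj p hC le_rfl hE (by omega) e
  obtain ⟨φ₀, h1, -, -⟩ := psu_cover p hC.perfect le_rfl hE (by omega) e
  have hM := span_acRep h1 (H920.span_eq_top hC.absIrred)
  obtain ⟨m, -, hm⟩ := FiniteField.card F p
  have h2f : H915.LD.Fr P (p ^ (2 * f)) := by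
    rw [two_mul, pow_add, ← hq]
    exact hcj.fr
  obtain ⟨N, hN⟩ : (m : ℕ) ∣ 2 * f := dvd_of_pow_eq hp2 hm (hC.pow_eq p h2f)
  have hN' : Nat.card F ^ N = q ^ 2 := by
    rw [Nat.card_eq_fintype_card, hm, hq, ← pow_mul, ← pow_mul, ← hN, mul_comm]
  refine ⟨N, ?_, hN', fun hN3 => (su3_bound p hE φ₀ hM hC.two_le hN' (by omega)).2 hN3⟩
  by_contra hcon
  obtain rfl : N = 0 := by omega
  rw [pow_zero] at hN'
  nlinarith only [hq3, hN']

end

/-- the primes dividing the order of `PSU(3, q)` -/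
theorem dvd_of_card {K : Type} [Field K] [Fintype K] {q r : ℕ} (hK : Fintype.card K = q ^ 2) (hr : r.Prime)
    (hrq : ¬ r ∣ q) (hd : r ∣ Nat.card (PSU 3 K q)) : r ∣ q ^ 6 - 1 := by
  have hq2 := two_le hK
  have h1 := S0280.result hK 3 (by norm_num)
  simp only [Finset.prod_range_succ, Finset.prod_range_zero, one_mul] at h1
  have h2 : r ∣ q ^ (3 * (3 - 1) / 2) * ((q + 1) * (q ^ 2 - 1) * (q ^ 3 + 1)) := by
    have h3 : r ∣ Nat.gcd 3 (q + 1) * ((q + 1) * Nat.card (PSU 3 K q)) := (hd.mul_left _).mul_left _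
    rw [h1] at h3
    simpa only [_root_.Nat.add_one_sub_one, _root_.Nat.reduceMul, _root_.Nat.reduceDiv, _root_.Even.zero, ↓ _root_.reduceIte, _root_.zero_add, _root_.pow_one, _root_.Nat.not_even_one, _root_.Nat.reduceAdd, _root_.even_two] using h3
  have e1 : q ^ 6 - 1 = (q ^ 3 - 1) * (q ^ 3 + 1) := by
    have hq3 : 1 ≤ q ^ 3 := Nat.one_le_pow _ _ (by omega)
    obtain ⟨s, hs⟩ : ∃ s, q ^ 3 = s + 1 := ⟨q ^ 3 - 1, (Nat.sub_add_cancel hq3).symm⟩
    have h7 : q ^ 6 = q ^ 3 * q ^ 3 := by ring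
    have h8 : (s + 1) * (s + 1) = s * (s + 1 + 1) + 1 := by ring
    rw [h7, hs, h8, Nat.add_sub_cancel, Nat.add_sub_cancel]
  have h4 : q ^ 2 - 1 ∣ q ^ 6 - 1 := Nat.pow_sub_one_dvd_pow_sub_one q (by norm_num)
  have h5 : q + 1 ∣ q ^ 2 - 1 := ⟨q - 1, by rw [← Nat.sq_sub_sq q 1, one_pow]⟩
  have h6 : q ^ 3 + 1 ∣ q ^ 6 - 1 := by rw [e1]; exact dvd_mul_left _ _
  rcases hr.dvd_mul.1 h2 with h | h
  · exact absurd (hr.dvd_of_dvd_pow h) hrq
  rcases hr.dvd_mul.1 h with h | h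
  · rcases hr.dvd_mul.1 h with h | h
    · exact h.trans (h5.trans h4)
    · exact h.trans h4
  · exact h.trans h6

/-- **The row `PSU(3, q₀)`, defining characteristic** -/
theorem not_psu3 {n k m : ℕ} {F : Type u} [Field F] [Finite F] {P : Subgroup (GL (Fin n) F)} (h : Row k m P)
    (hg : ∃ r, r.Prime ∧ r ∣ m ∧ r ∣ Nat.card (Soc P)) {p : ℕ} [hp : Fact p.Prime] [hFp : CharP F p] {K : Type}
    [Field K] [Fintype K] [hKp : CharP K p] {q₀ : ℕ} (hK : Fintype.card K = q₀ ^ 2) (h2 : q₀ ≠ 2)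
    (e : Soc P ≃* PSU 3 K q₀) : False := by
  have hq2 := two_le hK
  obtain ⟨N, hN1, hN, hb⟩ := core_bound p h.core (by omega) hK e
  rw [Fintype.card_fin] at hb
  obtain ⟨r, hr, hrm, hrc⟩ := hg
  have hten := h.num.ten
  have hlt := h.num.nlt
  have hrq : ¬ r ∣ q₀ := by
    intro hd
    have h1 : r ∣ Nat.card F ^ N := by
      rw [hN]
      exact dvd_pow hd (by norm_num)
    exact h.num.not_dvd_q hr hrm (hr.dvd_of_dvd_pow h1)
  rw [Nat.card_congr e.toEquiv] at hrc
  have h1 := dvd_of_card hK hr hrq hrc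
  have hk : k ∣ 3 * N := by
    rw [← h.num.pow_eq_one_iff hr hrm]
    have : Fact r.Prime := ⟨hr⟩
    have h2 : Nat.card F ^ (3 * N) = q₀ ^ 6 := by
      rw [mul_comm, pow_mul, hN]
      ring
    have h3 : 1 ≤ q₀ ^ 6 := Nat.one_le_pow _ _ (by omega)
    rw [← Nat.cast_pow, h2, ← sub_eq_zero, ← Nat.cast_one, ← Nat.cast_sub h3, ZMod.natCast_eq_zero_iff]
    exact h1
  have hk6 := h.num.six_le
  have hk3 := Nat.le_of_dvd (by omega) hk
  by_cases hN3 : 3 ≤ N
  · have := hb hN3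
    omega
  · obtain rfl : N = 2 := by omega
    rcases core_psu3 p h.core (by omega) hK e (by rw [Fintype.card_fin]; omega) with hsd | hc
    · rcases core_psu3_sd p h.core (by omega) hK e (by rw [Fintype.card_fin]; omega) hsd with h2 | h2
      · rw [Fintype.card_fin] at h2
        omega
      · rw [Fintype.card_fin] at h2
        omega
    · have h3 : 1 < q₀ ^ 2 := Nat.one_lt_pow (by norm_num) (by omega)
      rw [hc.1, pow_two (q₀ ^ 2)] at hN
      nlinarith only [hN, h3]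

end Cfsg.Agent.H525.Ppd
end

-- part: H69/Ppd/LastU
section
/-!
# The last node of `SU(2 m + 1, q)` in the defining characteristic (helper69, TEAM PPD)

`φ : SU N K q → GL(ι, F)` with absolutely irreducible image, `|F| ^ j = q ^ 2`, `j ≥ 2`, `i` the last node, `i ∉ J`:

* `exists_su3` : `SU 3 K q ≃ Lv X i`;
* **`last_bound`** : `6 ≤ dim Le {i}`, and `6 j ≤ dim Le {i}` if `j ≥ 3`.
-/

set_option autoImplicit false
set_option linter.unusedSectionVars false

namespace Cfsg.Agent.H69.Ppd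

open CoxeterSystem Cfsg.Agent.ChevalleyStructure.CoxeterGeom Cfsg.Agent.Tits.Roots Cfsg.Agent.Nodes.TypeC
open Cfsg.Agent.Nodes.Comb Cfsg.Agent.Nodes.Reps Cfsg.Agent.Nodes.WittRoot Cfsg.Agent.Nodes.BNOf
open Cfsg.Agent.Nodes.WittRGD Cfsg.Agent.Nodes.RGDLib Cfsg.Agent.Nodes.WittAll Cfsg.Agent.Nodes
open Cfsg.Agent.TitsThree Cfsg.Agent.TitsThree.Siegel Cfsg.Agent.TitsThree.WittFrame
  Cfsg.Agent.TitsThree.WittWeyl Cfsg.Agent.TitsThree.FrameCN
open Cfsg.Agent.LieClassical.HermBasic Cfsg.Agent.LieClassical.HermSiegel Cfsg.Agent.LieClassical.HermGen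
open Cfsg.Agent.TitsThree.KSideU Cfsg.Agent.TitsThree.KSideUDesc Cfsg.Agent.Nodes.WittU
  Cfsg.Agent.TitsThree.WBridge Cfsg.Agent.TitsThree.SiegelGen Cfsg.Agent.H61.SUCross
open Cfsg.Agent.Nodes.Bruhat Cfsg.Agent.Nodes.OppDec Cfsg.Agent.Nodes.LeviDec Cfsg.Agent.KFacts.RgdOpp
  Cfsg.Agent.Omega.CR Cfsg.Agent.Omega.FOne.Lift.Sd Cfsg.Agent.H911 Cfsg.Agent.H905.Md Cfsg.Agent.H156.Ppd
open Cfsg Cfsg.Geo Cfsg.Agent.H67 Cfsg.Agent.KFacts.MulOdd.Inst
open scoped MatrixGroups Matrix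

variable {K : Type} [Field K] [Fintype K] {q N m : ℕ} {hK : Fintype.card K = q ^ 2} (hN : 3 ≤ N)
  (W : WFrame (PU hK N) m) {i : Fin m}

/-- the last node -/
theorem exists_su3 (hi : ¬ (i : ℕ) + 1 < m) {d : Fin N → K} (hd : hermForm N K q d d = 1)
    (hV0 : W.V0 = Submodule.span K {d}) :
    Nonempty (SU 3 K q ≃* Lv (WittModel.X (modelSU hK hN W)) i) := by
  obtain ⟨W', d', hd', hV0'⟩ := exists_wframe_odd (N := 3) hK (m := 1) rfl
  obtain ⟨e, -⟩ := H61.LastOdd.exists_equiv (i := i) hV0 hd hV0' hd'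
  exact ⟨(e.symm.trans (MulEquiv.subgroupCongr (H61.SUNode.Nv_eq_ZG hi).symm)).trans (nodeEquiv hN W i).symm⟩

variable {Wg : Type*} [Group Wg] {cs : CoxeterSystem (CoxeterMatrix.B m) Wg} {F : Type*} [Field F] [Finite F]
  {ι : Type} [Fintype ι] [DecidableEq ι] [Nonempty ι] {P : Subgroup (GL ι F)} {φ : SU N K q →* GL ι F}

/-- **The edges of the last node.** -/
theorem last_bound {p : ℕ} [hp : Fact p.Prime] [CharP F p] [CharP K p] (hW : Kind W)
    (hφ : φ.range = P) (hP : ActsAbsolutelyIrreducibly (matrixSet P))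
    (hi : ¬ (i : ℕ) + 1 < m) {d : Fin N → K} (hd : hermForm N K q d d = 1)
    (hV0 : W.V0 = Submodule.span K {d})
    (hJ : i ∉ Jx cs (isCartan m) (WittModel.X (modelSU hK hN W)) (lrep φ)) {j : ℕ}
    (hj : Nat.card F ^ j = q ^ 2) (hj2 : 2 ≤ j) :
    6 ≤ Module.finrank F (Le cs (isCartan m) (WittModel.T (modelSU hK hN W)) (WittModel.X (modelSU hK hN W))
      (lrep φ) {i}) ∧
    (3 ≤ j → 6 * j ≤ Module.finrank F (Le cs (isCartan m) (WittModel.T (modelSU hK hN W))
      (WittModel.X (modelSU hK hN W)) (lrep φ) {i})) := by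
  have : Finite Wg := finite_W cs
  have hm0 : 0 < m := lt_of_le_of_lt (Nat.zero_le _) i.2
  obtain ⟨p0, hp0, -⟩ := exists_adm hK W
  have hA : AmbT (toFrame W) p (modelSU hK hN W).I := AmbT.of_amb (amb_U hK W) p
  have R := rgdC_model (modelSU hK hN W) hA hp0 cs
  have hG : GG cs (isCartan m) (WittModel.T (modelSU hK hN W)) (WittModel.X (modelSU hK hN W)) = ⊤ :=
    gg_top (WittModel.G1_eq_top _ hm0 _)
  have hT : ∀ s ∈ WittModel.T (modelSU hK hN W), ∀ t ∈ WittModel.T (modelSU hK hN W), s * t = t * s :=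
    modelT_comm hA (kd_su hW)
  obtain ⟨w, hw0, hw1, -, -⟩ := exists_w R hG hT hφ hP
  have hirr := lrep_irr (T := WittModel.T (modelSU hK hN W)) (X := WittModel.X (modelSU hK hN W))
    (h := isCartan m) (cs := cs) hG hφ hP
  obtain ⟨ψ, hψ⟩ := exists_levi R hirr hw0 hw1 i
  obtain ⟨e⟩ := exists_su3 hN W hi hd hV0
  have hr : (ψ.comp e.toMonoidHom).range = ψ.range := by
    ext y
    constructor
    · rintro ⟨x, rfl⟩
      exact ⟨_, rfl⟩
    · rintro ⟨x, rfl⟩
      refine ⟨e.symm x, ?_⟩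
      change ψ (e (e.symm x)) = ψ x
      rw [MulEquiv.apply_symm_apply]
  have hM := Cfsg.Agent.H929.U3.span_acRep hr (H920.span_eq_top hψ)
  have hD1 : Module.finrank F (D cs (isCartan m) (WittModel.X (modelSU hK hN W)) (lrep φ)) = 1 := by
    rw [hw1]
    exact finrank_span_singleton hw0
  have h2 := two_le_edge R hirr hJ
  rw [hD1, mul_one] at h2
  have h3 := Cfsg.Agent.H525.Ppd.su3_bound p hK (ψ.comp e.toMonoidHom) hM (by rw [Fintype.card_fin]; exact h2) hj hj2
  rw [Fintype.card_fin] at h3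
  exact h3

end Cfsg.Agent.H69.Ppd
end

-- part: H69/Ppd/Psu5
section
/-!
# TEAM PPD (S5948): `PSU(5, q₀)` in the defining characteristic (helper69)

* `su5_bound` : `φ : SU 5 K q → GL(ι, F)` with absolutely irreducible image, `|F| ^ j = q ^ 2`, `j ≥ 2`, `|ι| ≥ 2`:
  `10 j ≤ |ι|`;
* `core_five` : the same for a core of type `PSU(5, q₀)`;
* **`not_psu5`** : the row.
-/

set_option autoImplicit false
set_option linter.unusedSectionVars false

namespace Cfsg.Agent.H69.Ppd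

open CoxeterSystem Cfsg.Agent.ChevalleyStructure.CoxeterGeom Cfsg.Agent.Tits.Roots Cfsg.Agent.Nodes.TypeC
open Cfsg.Agent.Nodes.Comb Cfsg.Agent.Nodes.Reps Cfsg.Agent.Nodes.WittRoot Cfsg.Agent.Nodes.BNOf
open Cfsg.Agent.Nodes.WittRGD Cfsg.Agent.Nodes.RGDLib Cfsg.Agent.Nodes.WittAll Cfsg.Agent.Nodes
open Cfsg.Agent.TitsThree Cfsg.Agent.TitsThree.Siegel Cfsg.Agent.TitsThree.WittFrame
  Cfsg.Agent.TitsThree.WittWeyl Cfsg.Agent.TitsThree.FrameCN
open Cfsg.Agent.LieClassical.HermBasic Cfsg.Agent.LieClassical.HermSiegel Cfsg.Agent.LieClassical.HermGen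
open Cfsg.Agent.TitsThree.KSideU Cfsg.Agent.TitsThree.KSideUDesc Cfsg.Agent.Nodes.WittU
  Cfsg.Agent.TitsThree.WBridge Cfsg.Agent.TitsThree.SiegelGen Cfsg.Agent.H61.SUCross
open Cfsg.Agent.Nodes.Bruhat Cfsg.Agent.Nodes.OppDec Cfsg.Agent.Nodes.LeviDec Cfsg.Agent.KFacts.RgdOpp
  Cfsg.Agent.Omega.CR Cfsg.Agent.Omega.FOne.Lift.Sd Cfsg.Agent.H911 Cfsg.Agent.H905.Md Cfsg.Agent.H156.Ppd
open Cfsg Cfsg.Geo Cfsg.Agent.H67 Cfsg.Agent.KFacts.MulOdd.Inst
open Cfsg.Agent.H915.LD Cfsg.Agent.H100.Ppd Cfsg.Agent.H906 Cfsg.Agent.H929.U3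
open scoped MatrixGroups Matrix

universe u

section

variable {K : Type} [Field K] [Fintype K] {q N : ℕ}

/-- the frame of the kernel -/
theorem isFr_of {hK : Fintype.card K = q ^ 2} (W : WFrame (PU hK N) 2) {d : Fin N → K}
    (hd : hermForm N K q d d = 1) (hV0 : W.V0 = Submodule.span K {d}) :
    IsFr q (fun x : Fin 2 × Bool => (toFrame W).b x) d where
  bb x y := by
    have h1 := (toFrame W).hb x y
    change hermForm N K q _ _ = _ at h1
    rw [h1, HU_ε]
    obtain ⟨i, x⟩ := x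
    obtain ⟨j, y⟩ := y
    cases x <;> cases y <;> simp [op, eq_comm]
  bd x := (toFrame W).h0 x d (by
    rw [toFrame_V0, hV0]
    exact Submodule.mem_span_singleton_self d)
  db x := (toFrame W).h0' x (by
    rw [toFrame_V0, hV0]
    exact Submodule.mem_span_singleton_self d)
  dd := hd

variable {F : Type u} [Field F] [Finite F] {ι : Type} [Fintype ι] [DecidableEq ι] {P : Subgroup (GL ι F)}
  {φ : SU 5 K q →* GL ι F}

/-- **Absolutely irreducible representations of `SU(5, q)`, `|F| ^ j = q ^ 2`, `j ≥ 2`.** -/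
theorem su5_bound {p : ℕ} [hp : Fact p.Prime] [CharP F p] [CharP K p] (hK : Fintype.card K = q ^ 2)
    (hφ : φ.range = P) (hP : ActsAbsolutelyIrreducibly (matrixSet P)) (h2 : 2 ≤ Fintype.card ι) {j : ℕ}
    (hj : Nat.card F ^ j = q ^ 2) (hj2 : 2 ≤ j) : 10 * j ≤ Fintype.card ι := by
  classical
  have hne : Nonempty ι := Fintype.card_pos_iff.1 (by omega)
  obtain ⟨W, d, hd, hV0⟩ := exists_wframe_odd (N := 5) hK (m := 2) rfl
  have hW : Kind W := Or.inr ⟨d, hd, hV0⟩
  have : Finite (CoxeterMatrix.B 2).Group := finite_W (CoxeterMatrix.B 2).toCoxeterSystem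
  obtain ⟨p0, hp0, -⟩ := exists_adm hK W
  have h5 : 3 ≤ 5 := by norm_num
  have hA : AmbT (toFrame W) p (modelSU hK h5 W).I := AmbT.of_amb (amb_U hK W) p
  have R := rgdC_model (modelSU hK h5 W) hA hp0 (CoxeterMatrix.B 2).toCoxeterSystem
  have hG : GG (CoxeterMatrix.B 2).toCoxeterSystem (isCartan 2) (WittModel.T (modelSU hK h5 W))
      (WittModel.X (modelSU hK h5 W)) = ⊤ := gg_top (WittModel.G1_eq_top _ (by norm_num) _)
  have hT : ∀ s ∈ WittModel.T (modelSU hK h5 W), ∀ t ∈ WittModel.T (modelSU hK h5 W), s * t = t * s :=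
    modelT_comm hA (kd_su hW)
  obtain ⟨w, hw0, hw1, -, -⟩ := exists_w R hG hT hφ hP
  have hirr := lrep_irr (T := WittModel.T (modelSU hK h5 W)) (X := WittModel.X (modelSU hK h5 W))
    (h := isCartan 2) (cs := (CoxeterMatrix.B 2).toCoxeterSystem) hG hφ hP
  have hD1 : Module.finrank F (D (CoxeterMatrix.B 2).toCoxeterSystem (isCartan 2)
      (WittModel.X (modelSU hK h5 W)) (lrep φ)) = 1 := by
    rw [hw1]
    exact finrank_span_singleton hw0
  have hn : Module.finrank F (ι → F) = Fintype.card ι := Module.finrank_fintype_fun_eq_card F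
  by_cases h1 : (1 : Fin 2) ∈ Jx (CoxeterMatrix.B 2).toCoxeterSystem (isCartan 2)
    (WittModel.X (modelSU hK h5 W)) (lrep φ)
  · -- the type of the natural module
    have h0 : (0 : Fin 2) ∉ Jx (CoxeterMatrix.B 2).toCoxeterSystem (isCartan 2)
        (WittModel.X (modelSU hK h5 W)) (lrep φ) := by
      intro h0
      have h3 := D_eq_top R hirr (fun i => by
        fin_cases i
        · exact h0
        · exact h1)
      rw [h3, finrank_top, hn] at hD1
      omega
    have hJ : Jx (CoxeterMatrix.B 2).toCoxeterSystem (isCartan 2) (WittModel.X (modelSU hK h5 W)) (lrep φ) =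
        {i | i ≠ 0} := by
      ext i
      fin_cases i
      · exact ⟨fun h => absurd h h0, fun h => absurd rfl h⟩
      · exact ⟨fun _ => by simp, fun _ => h1⟩
    obtain ⟨σ⟩ := Cfsg.Agent.H929.U3.exists_embed K (AlgebraicClosure F) p
    obtain ⟨c', hc1, hc2, hc3⟩ := first_bound h5 W (p := p) (by norm_num) rfl hW hφ hP hJ (by rw [hj, hK]) σ
    have : Fintype F := Fintype.ofFinite F
    obtain ⟨s, -, hs⟩ := FiniteField.card F p
    have hcF : Nat.card F = p ^ (s : ℕ) := by rw [Nat.card_eq_fintype_card, hs]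
    have hchar : CharP (AlgebraicClosure F) p := charP_of_injective_algebraMap (algebraMap F _).injective p
    rw [hcF] at hj hc2 hc3
    exact (ker_five hK (isFr_of W hd hV0) σ s.pos (by rw [hj, hK]) hc1 hc2 hj2).trans hc3
  · have h3 := le_b2 R hirr h1 hD1
    obtain ⟨h4, h6⟩ := last_bound h5 W (i := 1) hW hφ hP (by norm_num) hd hV0 h1 hj hj2
    rw [hn] at h3
    by_cases hj3 : 3 ≤ j
    · have := h6 hj3
      omega
    · omega

/-- **cores of type `PSU(5, q)`** -/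
theorem core_five (p : ℕ) [hp : Fact p.Prime] [CharP F p] [CharP K p] (hC : Core P)
    (hK : Fintype.card K = q ^ 2) (e : Soc P ≃* PSU 5 K q) :
    ∃ j, 1 ≤ j ∧ Nat.card F ^ j = q ^ 2 ∧ (2 ≤ j → 10 * j ≤ Fintype.card ι) := by
  classical
  have hne := hC.nonempty
  have hp2 := hp.out.two_le
  have hq2 := two_le hK
  have : Fintype F := Fintype.ofFinite F
  obtain ⟨f, hq⟩ := Cfsg.Agent.H525.Ppd.exists_exp (p := p) hK
  have hcj := Cfsg.Agent.H929.U3.core_psu_cj p hC (by norm_num) hK (by omega) e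
  obtain ⟨φ₀, h1, -, -⟩ := psu_cover p hC.perfect (by norm_num) hK (by omega) e
  obtain ⟨m, -, hm⟩ := FiniteField.card F p
  have h2f : H915.LD.Fr P (p ^ (2 * f)) := by
    rw [two_mul, pow_add, ← hq]
    exact hcj.fr
  obtain ⟨N, hN⟩ : (m : ℕ) ∣ 2 * f := dvd_of_pow_eq hp2 hm (hC.pow_eq p h2f)
  have hN' : Nat.card F ^ N = q ^ 2 := by
    rw [Nat.card_eq_fintype_card, hm, hq, ← pow_mul, ← pow_mul, ← hN, mul_comm]
  refine ⟨N, ?_, hN', fun hN2 => su5_bound hK h1 hC.absIrred hC.two_le hN' hN2⟩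
  by_contra hcon
  obtain rfl : N = 0 := by omega
  rw [pow_zero] at hN'
  nlinarith only [hq2, hN']

end

/-- the primes dividing the order of `PSU(5, q)` -/
theorem dvd_of_card {K : Type} [Field K] [Fintype K] {q r : ℕ} (hK : Fintype.card K = q ^ 2) (hr : r.Prime)
    (hrq : ¬ r ∣ q) (hd : r ∣ Nat.card (PSU 5 K q)) :
    ∃ e, 1 ≤ e ∧ e ≤ 5 ∧ r ∣ (q ^ 2) ^ e - 1 := by
  have hq2 := two_le hK
  have h1 := S0280.result hK 5 (by norm_num)
  simp only [Finset.prod_range_succ, Finset.prod_range_zero, one_mul] at h1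
  have h2 : r ∣ q ^ (5 * (5 - 1) / 2) * ((q + 1) * (q ^ 2 - 1) * (q ^ 3 + 1) * (q ^ 4 - 1) * (q ^ 5 + 1)) := by
    have h3 : r ∣ Nat.gcd 5 (q + 1) * ((q + 1) * Nat.card (PSU 5 K q)) := (hd.mul_left _).mul_left _
    rw [h1] at h3
    have h4 : Even 4 := by decide
    have h6 : ¬ Even 3 := by decide
    simpa only [h4, h6, _root_.Nat.add_one_sub_one, _root_.Nat.reduceMul, _root_.Nat.reduceDiv, _root_.Even.zero, ↓ _root_.reduceIte, _root_.zero_add, _root_.pow_one, _root_.Nat.not_even_one, _root_.Nat.reduceAdd, _root_.even_two] using h3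
  -- `q ^ a + 1 ∣ (q ^ 2) ^ a - 1`
  have key : ∀ a, q ^ a + 1 ∣ (q ^ 2) ^ a - 1 := by
    intro a
    have h3 : 1 ≤ q ^ a := Nat.one_le_pow _ _ (by omega)
    obtain ⟨s, hs⟩ : ∃ s, q ^ a = s + 1 := ⟨q ^ a - 1, (Nat.sub_add_cancel h3).symm⟩
    have h4 : (q ^ 2) ^ a = q ^ a * q ^ a := by rw [← pow_mul, mul_comm 2 a, pow_mul, sq]
    have h8 : (s + 1) * (s + 1) = (s + 1 + 1) * s + 1 := by ring
    rw [h4, hs, h8, Nat.add_sub_cancel]
    exact dvd_mul_right _ _
  rcases hr.dvd_mul.1 h2 with h | h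
  · exact absurd (hr.dvd_of_dvd_pow h) hrq
  rcases hr.dvd_mul.1 h with h | h
  · rcases hr.dvd_mul.1 h with h | h
    · rcases hr.dvd_mul.1 h with h | h
      · rcases hr.dvd_mul.1 h with h | h
        · have := key 1
          rw [pow_one, pow_one] at this
          exact ⟨1, le_rfl, by norm_num, by rw [pow_one]; exact h.trans this⟩
        · exact ⟨1, le_rfl, by norm_num, by rw [pow_one]; exact h⟩
      · exact ⟨3, by norm_num, by norm_num, h.trans (key 3)⟩
    · refine ⟨2, by norm_num, by norm_num, ?_⟩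
      rw [← pow_mul]
      exact h
  · exact ⟨5, by norm_num, le_rfl, h.trans (key 5)⟩

/-- **The row `PSU(5, q₀)`, defining characteristic** -/
theorem not_psu5 {n k m : ℕ} {F : Type u} [Field F] [Finite F] {P : Subgroup (GL (Fin n) F)} (h : Row k m P)
    (hg : ∃ r, r.Prime ∧ r ∣ m ∧ r ∣ Nat.card (Soc P)) {p : ℕ} [hp : Fact p.Prime] [hFp : CharP F p] {K : Type}
    [Field K] [Fintype K] [hKp : CharP K p] {q₀ : ℕ} (hK : Fintype.card K = q₀ ^ 2)
    (e : Soc P ≃* PSU 5 K q₀) : False := by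
  have hq2 := two_le hK
  obtain ⟨N, hN1, hN, hb⟩ := core_five p h.core hK e
  rw [Fintype.card_fin] at hb
  obtain ⟨r, hr, hrm, hrc⟩ := hg
  have hten := h.num.ten
  have hlt := h.num.nlt
  have hrq : ¬ r ∣ q₀ := by
    intro hd
    have h1 : r ∣ Nat.card F ^ N := by
      rw [hN]
      exact dvd_pow hd (by norm_num)
    exact h.num.not_dvd_q hr hrm (hr.dvd_of_dvd_pow h1)
  rw [Nat.card_congr e.toEquiv] at hrc
  obtain ⟨a, ha1, ha5, h1⟩ := dvd_of_card hK hr hrq hrc
  have hk : k ∣ N * a := by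
    rw [← h.num.pow_eq_one_iff hr hrm]
    have : Fact r.Prime := ⟨hr⟩
    have h2 : Nat.card F ^ (N * a) = (q₀ ^ 2) ^ a := by rw [pow_mul, hN]
    have h3 : 1 ≤ (q₀ ^ 2) ^ a := Nat.one_le_pow _ _ (by positivity)
    rw [← Nat.cast_pow, h2, ← sub_eq_zero, ← Nat.cast_one, ← Nat.cast_sub h3, ZMod.natCast_eq_zero_iff]
    exact h1
  have hk3 := Nat.le_of_dvd (by positivity) hk
  have hk5 : N * a ≤ N * 5 := Nat.mul_le_mul_left N ha5
  by_cases hN2 : 2 ≤ N
  · have := hb hN2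
    omega
  · omega

end Cfsg.Agent.H69.Ppd
end

-- part: H69/Ppd/Psu6Aux
section
/-!
# TEAM PPD (S5948): two pieces for `PSU(N, q₀)` (helper69, for helper762)

* **`le_psu`** : a row with `Soc P ≃ PSU(N, q₀)`, `|F| ^ j = q₀ ^ 2`, a Zsigmondy prime of `m` dividing `|Soc P|`:
  `k ≤ j (2 ((N - 1) / 2) + 1)`;
* **`seven_last`** : `SU(7, q₀)`, `|F| = q₀`, the last node outside `J`: `56 ≤ |ι|`.
-/

set_option autoImplicit false
set_option linter.unusedSectionVars false

namespace Cfsg.Agent.H69.Ppd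

open CoxeterSystem Cfsg.Agent.ChevalleyStructure.CoxeterGeom Cfsg.Agent.Tits.Roots Cfsg.Agent.Nodes.TypeC
open Cfsg.Agent.Nodes.Comb Cfsg.Agent.Nodes.Reps Cfsg.Agent.Nodes.WittRoot Cfsg.Agent.Nodes.BNOf
open Cfsg.Agent.Nodes.WittRGD Cfsg.Agent.Nodes.RGDLib Cfsg.Agent.Nodes.WittAll Cfsg.Agent.Nodes
open Cfsg.Agent.TitsThree Cfsg.Agent.TitsThree.Siegel Cfsg.Agent.TitsThree.WittFrame
  Cfsg.Agent.TitsThree.WittWeyl Cfsg.Agent.TitsThree.FrameCN
open Cfsg.Agent.LieClassical.HermBasic Cfsg.Agent.LieClassical.HermSiegel Cfsg.Agent.LieClassical.HermGen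
open Cfsg.Agent.TitsThree.KSideU Cfsg.Agent.TitsThree.KSideUDesc Cfsg.Agent.Nodes.WittU
  Cfsg.Agent.TitsThree.WBridge Cfsg.Agent.TitsThree.SiegelGen Cfsg.Agent.H61.SUCross
open Cfsg.Agent.Nodes.Bruhat Cfsg.Agent.Nodes.OppDec Cfsg.Agent.Nodes.LeviDec Cfsg.Agent.KFacts.RgdOpp
  Cfsg.Agent.Omega.CR Cfsg.Agent.Omega.FOne.Lift.Sd Cfsg.Agent.H911 Cfsg.Agent.H905.Md Cfsg.Agent.H156.Ppd
open Cfsg Cfsg.Geo Cfsg.Agent.H67 Cfsg.Agent.KFacts.MulOdd.Inst
open Cfsg.Agent.H915.LD Cfsg.Agent.H100.Ppd Cfsg.Agent.H906 Cfsg.Agent.H929.U3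
open scoped MatrixGroups Matrix

universe u

/-- the primes dividing the order of `PSU(N, q)` -/
theorem dvd_of_card_psu {K : Type} [Field K] [Fintype K] {N q r : ℕ} (hN : 2 ≤ N)
    (hK : Fintype.card K = q ^ 2) (hr : r.Prime) (hrq : ¬ r ∣ q) (hd : r ∣ Nat.card (PSU N K q)) :
    ∃ e, 1 ≤ e ∧ e ≤ 2 * ((N - 1) / 2) + 1 ∧ r ∣ (q ^ 2) ^ e - 1 := by
  classical
  have hq2 := two_le hK
  have h1 := S0280.result hK N hN
  have h2 : r ∣ q ^ (N * (N - 1) / 2) *
      ∏ i ∈ Finset.range N, (if Even i then q ^ (i + 1) + 1 else q ^ (i + 1) - 1) := by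
    have h3 : r ∣ Nat.gcd N (q + 1) * ((q + 1) * Nat.card (PSU N K q)) := (hd.mul_left _).mul_left _
    rwa [h1] at h3
  have key : ∀ a, q ^ a + 1 ∣ (q ^ 2) ^ a - 1 := by
    intro a
    have h3 : 1 ≤ q ^ a := Nat.one_le_pow _ _ (by omega)
    obtain ⟨s, hs⟩ : ∃ s, q ^ a = s + 1 := ⟨q ^ a - 1, (Nat.sub_add_cancel h3).symm⟩
    have h4 : (q ^ 2) ^ a = q ^ a * q ^ a := by rw [← pow_mul, mul_comm 2 a, pow_mul, sq]
    have h8 : (s + 1) * (s + 1) = (s + 1 + 1) * s + 1 := by ring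
    rw [h4, hs, h8, Nat.add_sub_cancel]
    exact dvd_mul_right _ _
  rcases hr.dvd_mul.1 h2 with h | h
  · exact absurd (hr.dvd_of_dvd_pow h) hrq
  obtain ⟨i, hi, h3⟩ := (Prime.dvd_finset_prod_iff hr.prime _).1 h
  rw [Finset.mem_range] at hi
  by_cases he : Even i
  · rw [if_pos he] at h3
    obtain ⟨t, ht⟩ := he
    exact ⟨i + 1, by omega, by omega, h3.trans (key (i + 1))⟩
  · rw [if_neg he] at h3
    rw [Nat.not_even_iff_odd] at he
    obtain ⟨t, ht⟩ := he
    refine ⟨t + 1, by omega, by omega, ?_⟩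
    rw [← pow_mul]
    have h4 : 2 * (t + 1) = i + 1 := by omega
    rw [h4]
    exact h3

/-- **The degree of a row with socle `PSU(N, q₀)`.** -/
theorem le_psu {n k m : ℕ} {F : Type u} [Field F] [Finite F] {P : Subgroup (GL (Fin n) F)} (h : Row k m P)
    {K : Type} [Field K] [Fintype K] {N q₀ : ℕ} (hK : Fintype.card K = q₀ ^ 2) (hN : 3 ≤ N) {j : ℕ}
    (hj : Nat.card F ^ j = q₀ ^ 2) (hg : ∃ r, r.Prime ∧ r ∣ m ∧ r ∣ Nat.card (Soc P))
    (e : Soc P ≃* PSU N K q₀) : k ≤ j * (2 * ((N - 1) / 2) + 1) := by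
  have hq2 := two_le hK
  obtain ⟨r, hr, hrm, hrc⟩ := hg
  have hrq : ¬ r ∣ q₀ := by
    intro hd
    have h1 : r ∣ Nat.card F ^ j := by
      rw [hj]
      exact dvd_pow hd (by norm_num)
    exact h.num.not_dvd_q hr hrm (hr.dvd_of_dvd_pow h1)
  rw [Nat.card_congr e.toEquiv] at hrc
  obtain ⟨a, ha1, ha5, h1⟩ := dvd_of_card_psu (by omega) hK hr hrq hrc
  have hj1 : 1 ≤ j := by
    by_contra hcon
    obtain rfl : j = 0 := by omega
    rw [pow_zero] at hj
    nlinarith only [hq2, hj]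
  have hk : k ∣ j * a := by
    rw [← h.num.pow_eq_one_iff hr hrm]
    have : Fact r.Prime := ⟨hr⟩
    have h2 : Nat.card F ^ (j * a) = (q₀ ^ 2) ^ a := by rw [pow_mul, hj]
    have h3 : 1 ≤ (q₀ ^ 2) ^ a := Nat.one_le_pow _ _ (by positivity)
    rw [← Nat.cast_pow, h2, ← sub_eq_zero, ← Nat.cast_one, ← Nat.cast_sub h3, ZMod.natCast_eq_zero_iff]
    exact h1
  exact (Nat.le_of_dvd (by positivity) hk).trans (Nat.mul_le_mul_left j ha5)

section

variable {K : Type} [Field K] [Fintype K] {q : ℕ} {hK : Fintype.card K = q ^ 2} (h7 : 3 ≤ 7)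
  (W : WFrame (PU hK 7) 3) {i : Fin 3}
  {Wg : Type*} [Group Wg] {cs : CoxeterSystem (CoxeterMatrix.B 3) Wg} {F : Type*} [Field F] [Finite F]
  {ι : Type} [Fintype ι] [DecidableEq ι] [Nonempty ι] {P : Subgroup (GL ι F)} {φ : SU 7 K q →* GL ι F}

/-- **`SU(7, q)` over `F`, `|F| = q`, the last node outside `J`.** -/
theorem seven_last {p : ℕ} [hp : Fact p.Prime] [CharP F p] [CharP K p] (hW : Kind W)
    (hφ : φ.range = P) (hP : ActsAbsolutelyIrreducibly (matrixSet P))
    (hi : ¬ (i : ℕ) + 1 < 3) {d : Fin 7 → K} (hd : hermForm 7 K q d d = 1)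
    (hV0 : W.V0 = Submodule.span K {d})
    (hJ : i ∉ Jx cs (isCartan 3) (WittModel.X (modelSU hK h7 W)) (lrep φ))
    (hj : Nat.card F ^ 2 = q ^ 2) : 56 ≤ Fintype.card ι := by
  have : Finite Wg := finite_W cs
  obtain ⟨p0, hp0, -⟩ := exists_adm hK W
  have hA : AmbT (toFrame W) p (modelSU hK h7 W).I := AmbT.of_amb (amb_U hK W) p
  have R := rgdC_model (modelSU hK h7 W) hA hp0 cs
  have hG : GG cs (isCartan 3) (WittModel.T (modelSU hK h7 W)) (WittModel.X (modelSU hK h7 W)) = ⊤ :=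
    gg_top (WittModel.G1_eq_top _ (by norm_num) _)
  have hT : ∀ s ∈ WittModel.T (modelSU hK h7 W), ∀ t ∈ WittModel.T (modelSU hK h7 W), s * t = t * s :=
    modelT_comm hA (kd_su hW)
  obtain ⟨w, hw0, hw1, -, -⟩ := exists_w R hG hT hφ hP
  have hirr := lrep_irr (T := WittModel.T (modelSU hK h7 W)) (X := WittModel.X (modelSU hK h7 W))
    (h := isCartan 3) (cs := cs) hG hφ hP
  have hD1 : Module.finrank F (D cs (isCartan 3) (WittModel.X (modelSU hK h7 W)) (lrep φ)) = 1 := by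
    rw [hw1]
    exact finrank_span_singleton hw0
  have h3 := Cfsg.Agent.H948.Ppd.TypeB.dim_ge_last R hirr (i := i) (by have := i.2; omega) hJ
  have h4 := (last_bound h7 W hW hφ hP hi hd hV0 hJ hj le_rfl).1
  have h5 := finrank_Io R hirr i
  rw [Module.finrank_fintype_fun_eq_card, hD1] at h3
  rw [hD1] at h5
  omega

end

end Cfsg.Agent.H69.Ppd
end
end
end
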